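import Mathlib
import Cfsg.Agent.ClassicalGeometry.TwoFamilies

/-!
# The linear algebra behind Peterfalvi (11.7)

A group `X` acts on a vector space `V` of odd prime dimension `q`, `U ≤ X` has odd order and is
normalised by `w` with `w ^ q = 1`, no proper nonzero subspace is invariant under `U` and `w`, and
`U` preserves a nonzero alternating form.  Then `U` acts trivially.
-/

set_option autoImplicit false

open Module

namespace Cfsg.Agent.OddOrderCharacters.PF11.LinearCore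

variable {F V : Type*} [Field F] [AddCommGroup V] [Module F V] [FiniteDimensional F V]
variable {X : Type*} [Group X]

/-- `U`-invariance of a subspace. -/
def Inv (ρ : X →* (V →ₗ[F] V)) (U : Subgroup X) (L : Submodule F V) : Prop :=
  ∀ u ∈ U, ∀ v ∈ L, ρ u v ∈ L

theorem inv_def (ρ : X →* (V →ₗ[F] V)) (U : Subgroup X) (L : Submodule F V) :
    Inv ρ U L ↔ ∀ u ∈ U, ∀ v ∈ L, ρ u v ∈ L := Iff.rfl

theorem exists_minimal (ρ : X →* (V →ₗ[F] V)) (U : Subgroup X) (K : Submodule F V)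
    (hK : K ≠ ⊥) (hKi : Inv ρ U K) :
    ∃ L : Submodule F V, L ≠ ⊥ ∧ Inv ρ U L ∧ L ≤ K ∧
      ∀ L' : Submodule F V, L' ≤ L → Inv ρ U L' → L' = ⊥ ∨ L' = L := by
  obtain ⟨L, hL, hmin⟩ := WellFounded.has_min (wellFounded_lt (α := Submodule F V))
    {L | L ≠ ⊥ ∧ Inv ρ U L ∧ L ≤ K} ⟨K, hK, hKi, le_refl K⟩
  refine ⟨L, hL.1, hL.2.1, hL.2.2, fun L' hL' hi => ?_⟩
  by_contra hcon
  push Not at hcon
  exact hmin L' ⟨hcon.1, hi, hL'.trans hL.2.2⟩ (lt_of_le_of_ne hL' hcon.2)

theorem rho_inv_apply (ρ : X →* (V →ₗ[F] V)) (x : X) (v : V) : ρ x⁻¹ (ρ x v) = v := by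
  rw [← Module.End.mul_apply, ← map_mul, inv_mul_cancel, map_one]; rfl

theorem rho_apply_inv (ρ : X →* (V →ₗ[F] V)) (x : X) (v : V) : ρ x (ρ x⁻¹ v) = v := by
  rw [← Module.End.mul_apply, ← map_mul, mul_inv_cancel, map_one]; rfl

theorem rho_injective (ρ : X →* (V →ₗ[F] V)) (x : X) : Function.Injective (ρ x) :=
  fun a b h => by rw [← rho_inv_apply ρ x a, h, rho_inv_apply]

/-- The translate of an invariant subspace by an element normalising `U`. -/
theorem inv_map {ρ : X →* (V →ₗ[F] V)} {U : Subgroup X} {L : Submodule F V} (hL : Inv ρ U L)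
    {x : X} (hx : ∀ u ∈ U, x⁻¹ * u * x ∈ U) : Inv ρ U (L.map (ρ x)) := by
  rintro u hu _ ⟨v, hv, rfl⟩
  refine ⟨ρ (x⁻¹ * u * x) v, hL _ (hx u hu) v hv, ?_⟩
  rw [← Module.End.mul_apply, ← Module.End.mul_apply, ← map_mul, ← map_mul]
  congr 2
  group

theorem core {U : Subgroup X} (hU : Odd (Nat.card U)) (ρ : X →* (V →ₗ[F] V)) {w : X}
    {q : ℕ} (hq : q.Prime) (hqo : Odd q) (hdim : finrank F V = q) (hw : w ^ q = 1)
    (hwU : ∀ u ∈ U, w * u * w⁻¹ ∈ U) (hwU' : ∀ u ∈ U, w⁻¹ * u * w ∈ U)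
    (B : LinearMap.BilinForm F V) (hB : B.IsAlt) (hB0 : B ≠ 0)
    (hBU : ∀ u ∈ U, ∀ x y, B (ρ u x) (ρ u y) = B x y)
    (hirr : ∀ W : Submodule F V, Inv ρ U W → (∀ v ∈ W, ρ w v ∈ W) → W = ⊥ ∨ W = ⊤) :
    ∀ u ∈ U, ∀ v, ρ u v = v := by
  classical
  -- the radical
  have hKi : Inv ρ U (LinearMap.ker B) := by
    intro u hu v hv
    rw [LinearMap.mem_ker] at hv ⊢
    ext y
    have h1 := hBU u hu v (ρ u⁻¹ y)
    rw [rho_apply_inv, hv] at h1
    simpa using h1
  have hKbot : LinearMap.ker B ≠ ⊥ := by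
    intro h
    obtain ⟨m, hm⟩ := Cfsg.Agent.ClassicalGeometry.TwoFamilies.exists_finrank_eq_ker_add B hB
    rw [h, finrank_bot, hdim, zero_add] at hm
    rw [hm] at hqo
    exact (Nat.not_odd_iff_even.mpr ⟨m, rfl⟩) hqo
  have hKtop : LinearMap.ker B ≠ ⊤ := fun h => hB0 (LinearMap.ker_eq_top.mp h)
  obtain ⟨L, hL0, hLi, hLK, hLmin⟩ := exists_minimal ρ U _ hKbot hKi
  -- powers of `w` normalise `U`
  have hwn : ∀ i : ℕ, ∀ u ∈ U, (w ^ i)⁻¹ * u * w ^ i ∈ U := by
    intro i
    induction i with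
    | zero => intro u hu; simpa using hu
    | succ i ih =>
      intro u hu
      have := hwU' _ (ih u hu)
      have e : (w ^ (i + 1))⁻¹ * u * w ^ (i + 1) = w⁻¹ * ((w ^ i)⁻¹ * u * w ^ i) * w := by
        rw [pow_succ]; group
      rwa [e]
  have hwn' : ∀ i : ℕ, ∀ u ∈ U, w ^ i * u * (w ^ i)⁻¹ ∈ U := by
    intro i
    induction i with
    | zero => intro u hu; simpa using hu
    | succ i ih =>
      intro u hu
      have := hwU _ (ih u hu)
      have e : w ^ (i + 1) * u * (w ^ (i + 1))⁻¹ = w * (w ^ i * u * (w ^ i)⁻¹) * w⁻¹ := by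
        rw [pow_succ']; group
      rwa [e]
  let Li : ℕ → Submodule F V := fun i => L.map (ρ (w ^ i))
  have hLii : ∀ i, Inv ρ U (Li i) := fun i => inv_map hLi (hwn i)
  have hfr : ∀ i, finrank F (Li i) = finrank F L := fun i =>
    (Submodule.equivMapOfInjective (ρ (w ^ i)) (rho_injective ρ (w ^ i)) L).finrank_eq.symm
  have hLi_min : ∀ i, ∀ L' : Submodule F V, L' ≤ Li i → Inv ρ U L' → L' = ⊥ ∨ L' = Li i := by
    intro i L' hL' hi
    have h1 : Inv ρ U (L'.map (ρ (w ^ i)⁻¹)) := by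
      apply inv_map hi
      intro u hu
      have := hwn' i u hu
      simpa using this
    have h2 : L'.map (ρ (w ^ i)⁻¹) ≤ L := by
      rintro _ ⟨v, hv, rfl⟩
      obtain ⟨x, hx, rfl⟩ := hL' hv
      rw [rho_inv_apply]; exact hx
    have h3 : (L'.map (ρ (w ^ i)⁻¹)).map (ρ (w ^ i)) = L' := by
      ext v
      constructor
      · rintro ⟨_, ⟨x, hx, rfl⟩, rfl⟩
        rw [rho_apply_inv]; exact hx
      · intro hv
        exact ⟨_, ⟨v, hv, rfl⟩, rho_apply_inv _ _ _⟩
    rcases hLmin _ h2 h1 with h | h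
    · left
      rw [← h3, h, Submodule.map_bot]
    · right
      rw [← h3, h]
  -- partial sums
  obtain ⟨S, hS0, hSs⟩ : ∃ S : ℕ → Submodule F V, S 0 = ⊥ ∧ ∀ k, S (k + 1) = S k ⊔ Li k :=
    ⟨fun k => Nat.rec ⊥ (fun i T => T ⊔ Li i) k, rfl, fun _ => rfl⟩
  have hSi : ∀ k, Inv ρ U (S k) := by
    intro k
    induction k with
    | zero =>
      intro u _ v hv
      rw [hS0, Submodule.mem_bot] at hv
      rw [hv, map_zero]; exact Submodule.zero_mem _
    | succ k ih =>
      intro u hu v hv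
      rw [hSs, Submodule.mem_sup] at hv ⊢
      obtain ⟨a, ha, b, hb, rfl⟩ := hv
      exact ⟨ρ u a, ih u hu a ha, ρ u b, hLii k u hu b hb, by rw [map_add]⟩
  have hdvd : ∀ k : ℕ, finrank F ↥L ∣ finrank F ↥(S k) := by
    intro k
    induction k with
    | zero => rw [hS0, finrank_bot]; exact dvd_zero _
    | succ k ih =>
      rw [hSs]
      have h1 := Submodule.finrank_sup_add_finrank_inf_eq (S k) (Li k)
      have hinf : Inv ρ U (S k ⊓ Li k) := fun u hu v hv =>
        ⟨hSi k u hu v hv.1, hLii k u hu v hv.2⟩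
      rcases hLi_min k _ inf_le_right hinf with h | h
      · rw [h, finrank_bot, add_zero, hfr] at h1
        rw [h1]
        exact Dvd.dvd.add ih dvd_rfl
      · rw [h] at h1
        have h2 : finrank F ↥(S k ⊔ Li k) = finrank F ↥(S k) := by omega
        rw [h2]; exact ih
  have hLiS : ∀ i k, i < k → Li i ≤ S k := by
    intro i k hik
    induction k with
    | zero => omega
    | succ k ih =>
      rw [hSs]
      rcases Nat.lt_succ_iff_lt_or_eq.mp hik with h | h
      · exact (ih h).trans le_sup_left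
      · rw [h]; exact le_sup_right
  have hwS : ∀ k, ∀ v ∈ S k, ρ w v ∈ S (k + 1) := by
    intro k
    induction k with
    | zero =>
      intro v hv
      rw [hS0, Submodule.mem_bot] at hv
      rw [hv, map_zero]; exact Submodule.zero_mem _
    | succ k ih =>
      intro v hv
      rw [hSs, Submodule.mem_sup] at hv
      obtain ⟨a, ha, b, ⟨c, hc, rfl⟩, rfl⟩ := hv
      rw [map_add]
      refine Submodule.add_mem _ ?_ ?_
      · have := ih a ha
        rw [hSs (k + 1)]
        exact Submodule.mem_sup_left this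
      · rw [hSs (k + 1)]
        refine Submodule.mem_sup_right ⟨c, hc, ?_⟩
        rw [← Module.End.mul_apply, ← map_mul, pow_succ']
  have hLq : Li q = Li 0 := by
    show L.map (ρ (w ^ q)) = L.map (ρ (w ^ 0))
    rw [hw, pow_zero]
  have hSq : S (q + 1) = S q := by
    rw [hSs, hLq]
    exact sup_eq_left.mpr (hLiS 0 q hq.pos)
  have hStop : S q = ⊤ := by
    refine (hirr (S q) (hSi q) (fun v hv => ?_)).resolve_left ?_
    · have := hwS q v hv
      rwa [hSq] at this
    · intro h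
      have h1 := hLiS 0 q hq.pos
      rw [h, le_bot_iff] at h1
      apply hL0
      have h2 : L.map (ρ (w ^ 0)) = ⊥ := h1
      rw [pow_zero, map_one] at h2
      have h3 : L.map (1 : V →ₗ[F] V) = L := Submodule.map_id L
      rw [← h3]; exact h2
  have hLdvd : finrank F L ∣ q := by
    have := hdvd q
    rwa [hStop, finrank_top, hdim] at this
  have hL1 : finrank F L = 1 := by
    rcases (Nat.dvd_prime hq).mp hLdvd with h | h
    · exact h
    · exfalso
      apply hKtop
      have : L = ⊤ := Submodule.eq_top_of_finrank_eq (by rw [h, hdim])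
      rw [eq_top_iff, ← this]; exact hLK
  obtain ⟨⟨e, heL⟩, he0, he⟩ := finrank_eq_one_iff'.mp hL1
  have he0' : e ≠ 0 := fun h => he0 (by ext; exact h)
  have hspan : ∀ v ∈ L, ∃ c : F, c • e = v := by
    intro v hv
    obtain ⟨c, hc⟩ := he ⟨v, hv⟩
    exact ⟨c, congrArg Subtype.val hc⟩
  have hchar : ∀ u : X, ∃ c : F, u ∈ U → ρ u e = c • e := by
    intro u
    by_cases hu : u ∈ U
    · obtain ⟨c, hc⟩ := hspan _ (hLi u hu e heL)
      exact ⟨c, fun _ => hc.symm⟩
    · exact ⟨0, fun h => absurd h hu⟩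
  choose a ha using hchar
  have ha_mul : ∀ u ∈ U, ∀ v ∈ U, a (u * v) = a u * a v := by
    intro u hu v hv
    have h1 := ha (u * v) (U.mul_mem hu hv)
    rw [map_mul, Module.End.mul_apply, ha v hv, map_smul, ha u hu, smul_smul] at h1
    have h2 := smul_left_injective F he0' h1
    rw [← h2, mul_comm]
  have hei : ∀ i : ℕ, ∀ u ∈ U, ρ u (ρ (w ^ i) e) = a ((w ^ i)⁻¹ * u * w ^ i) • ρ (w ^ i) e := by
    intro i u hu
    rw [← map_smul, ← ha _ (hwn i u hu), ← Module.End.mul_apply, ← Module.End.mul_apply,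
      ← map_mul, ← map_mul]
    congr 2
    group
  -- a nonzero value of the form
  obtain ⟨i, j, hij⟩ : ∃ i j : ℕ, B (ρ (w ^ i) e) (ρ (w ^ j) e) ≠ 0 := by
    by_contra hcon
    push Not at hcon
    apply hB0
    have hSle : ∀ k, S k ≤ Submodule.span F (Set.range fun i : ℕ => ρ (w ^ i) e) := by
      intro k
      induction k with
      | zero => rw [hS0]; exact bot_le
      | succ k ih =>
        rw [hSs]
        refine sup_le ih ?_
        rintro _ ⟨v, hv, rfl⟩
        obtain ⟨c, rfl⟩ := hspan v hv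
        rw [map_smul]
        exact Submodule.smul_mem _ _ (Submodule.subset_span ⟨k, rfl⟩)
    have hsp : Submodule.span F (Set.range fun i : ℕ => ρ (w ^ i) e) = ⊤ := by
      rw [eq_top_iff, ← hStop]; exact hSle q
    refine LinearMap.ext_on hsp ?_
    rintro _ ⟨i, rfl⟩
    refine LinearMap.ext_on hsp ?_
    rintro _ ⟨j, rfl⟩
    simpa using hcon i j
  have key1 : ∀ u ∈ U, a ((w ^ i)⁻¹ * u * w ^ i) * a ((w ^ j)⁻¹ * u * w ^ j) = 1 := by
    intro u hu
    have h := hBU u hu (ρ (w ^ i) e) (ρ (w ^ j) e)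
    simp only [hei i u hu, hei j u hu, map_smul, LinearMap.smul_apply, smul_eq_mul] at h
    have h' : (a ((w ^ i)⁻¹ * u * w ^ i) * a ((w ^ j)⁻¹ * u * w ^ j)) *
        B (ρ (w ^ i) e) (ρ (w ^ j) e) = B (ρ (w ^ i) e) (ρ (w ^ j) e) := by
      linear_combination h
    exact mul_right_cancel₀ hij (by rw [h', one_mul])
  set δ : X := (w ^ j)⁻¹ * w ^ i with hδ
  have hδU : ∀ u ∈ U, δ * u * δ⁻¹ ∈ U := by
    intro u hu
    have := hwn j _ (hwn' i u hu)
    have e1 : (w ^ j)⁻¹ * (w ^ i * u * (w ^ i)⁻¹) * w ^ j = δ * u * δ⁻¹ := by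
      rw [hδ]; group
    rwa [← e1]
  have hδq : δ ^ q = 1 := by
    have hc : Commute (w ^ j)⁻¹ (w ^ i) := ((Commute.refl w).pow_pow j i).inv_left
    rw [hδ, hc.mul_pow, inv_pow, ← pow_mul, ← pow_mul, mul_comm j, mul_comm i, pow_mul, pow_mul,
      hw, one_pow, one_pow, inv_one, one_mul]
  have key2 : ∀ u ∈ U, a u * a (δ * u * δ⁻¹) = 1 := by
    intro u hu
    have h := key1 _ (hwn' i u hu)
    have e1 : (w ^ i)⁻¹ * (w ^ i * u * (w ^ i)⁻¹) * w ^ i = u := by group
    have e2 : (w ^ j)⁻¹ * (w ^ i * u * (w ^ i)⁻¹) * w ^ j = δ * u * δ⁻¹ := by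
      rw [hδ]; group
    rwa [e1, e2] at h
  have key3 : ∀ m : ℕ, ∀ u ∈ U, a (δ ^ (2 * m) * u * (δ ^ (2 * m))⁻¹) = a u ∧
      δ ^ (2 * m) * u * (δ ^ (2 * m))⁻¹ ∈ U := by
    intro m
    induction m with
    | zero => intro u hu; simpa using hu
    | succ m ih =>
      intro u hu
      obtain ⟨h1, h2⟩ := ih u hu
      set t := δ ^ (2 * m) * u * (δ ^ (2 * m))⁻¹ with ht
      have e1 : δ ^ (2 * (m + 1)) * u * (δ ^ (2 * (m + 1)))⁻¹ = δ * (δ * t * δ⁻¹) * δ⁻¹ := by
        have : δ ^ (2 * (m + 1)) = δ * (δ * δ ^ (2 * m)) := by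
          rw [← pow_succ', ← pow_succ']; congr 1
        rw [this, ht]; group
      rw [e1]
      refine ⟨?_, hδU _ (hδU _ h2)⟩
      have k1 := key2 t h2
      have k2 := key2 _ (hδU _ h2)
      have hne : a (δ * t * δ⁻¹) ≠ 0 := by
        intro h0; rw [h0, mul_zero] at k1; exact zero_ne_one k1
      rw [← h1]
      apply mul_left_cancel₀ hne
      rw [k2, mul_comm, k1]
  have key4 : ∀ u ∈ U, a u * a u = 1 := by
    intro u hu
    obtain ⟨m, hm⟩ := hqo
    have h1 := (key3 (m + 1) u hu).1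
    have e1 : δ ^ (2 * (m + 1)) = δ := by
      have : 2 * (m + 1) = q + 1 := by omega
      rw [this, pow_succ, hδq, one_mul]
    rw [e1] at h1
    have h2 := key2 u hu
    rwa [h1] at h2
  have key5 : ∀ u ∈ U, a u = 1 := by
    intro u hu
    obtain ⟨m, hm⟩ := hU
    have hun : u ^ (Nat.card U) = 1 := by
      have : (⟨u, hu⟩ : U) ^ Nat.card U = 1 := pow_card_eq_one'
      exact congrArg Subtype.val this
    have e1 : u = u ^ (m + 1) * u ^ (m + 1) := by
      rw [← pow_add]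
      have : m + 1 + (m + 1) = Nat.card U + 1 := by omega
      rw [this, pow_succ, hun, one_mul]
    have h := ha_mul _ (U.pow_mem hu (m + 1)) _ (U.pow_mem hu (m + 1))
    rw [← e1, key4 _ (U.pow_mem hu (m + 1))] at h
    exact h
  -- the fixed space
  let W : Submodule F V :=
    { carrier := {v | ∀ u ∈ U, ρ u v = v}
      add_mem' := fun {x y} hx hy u hu => by rw [map_add, hx u hu, hy u hu]
      zero_mem' := fun u _ => map_zero _
      smul_mem' := fun c x hx u hu => by rw [map_smul, hx u hu] }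
  have hW : W = ⊤ := by
    refine (hirr W ?_ ?_).resolve_left ?_
    · intro u hu v hv u' hu'
      rw [hv u hu, hv u' hu']
    · intro v hv u hu
      have h1 := hv _ (hwU' u hu)
      calc ρ u (ρ w v) = ρ w (ρ (w⁻¹ * u * w) v) := by
            rw [← Module.End.mul_apply, ← Module.End.mul_apply, ← map_mul, ← map_mul]
            congr 2
            group
        _ = ρ w v := by rw [h1]
    · intro h
      have : e ∈ W := fun u hu => by rw [ha u hu, key5 u hu, one_smul]
      rw [h, Submodule.mem_bot] at this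
      exact he0' this
  intro u hu v
  have : v ∈ W := by rw [hW]; exact Submodule.mem_top
  exact this u hu

end Cfsg.Agent.OddOrderCharacters.PF11.LinearCore
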