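import Mathlib
import Cfsg.Agent.OddOrderCharacters.PF11.LinearCore

/-!
# Peterfalvi (11.7), group version

`H` is a finite group with `[H, H] ≤ Z(H)` and `H / [H, H]` elementary abelian of order `p ^ q`, `q` an odd
prime.  A group of odd order acts on `H`, trivially on `[H, H]` and nontrivially on `H / [H, H]`, and is
normalised by `w` with `w ^ q = 1` such that `H / [H, H]` is irreducible under both.  Then `H` is abelian.
-/

set_option autoImplicit false

open Module

namespace Cfsg.Agent.OddOrderCharacters.PF11.ClassTwo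

open Subgroup
open scoped commutatorElement

theorem exists_functional_mod {V : Type*} [AddCommGroup V] {p : ℕ} [Fact p.Prime]
    [Module (ZMod p) V] (z : V) (hz : z ≠ 0) : ∃ l : V →+ ZMod p, l z ≠ 0 := by
  by_contra hcon
  push Not at hcon
  exact hz ((Module.forall_dual_apply_eq_zero_iff (ZMod p) z).mp fun f => hcon f.toAddMonoidHom)

theorem exists_functional_add {Z : Type*} [AddCommGroup Z] {p : ℕ} [Fact p.Prime]
    (hexp : ∀ a : Z, p • a = 0) (z : Z) (hz : z ≠ 0) : ∃ l : Z →+ ZMod p, l z ≠ 0 := by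
  let _ : Module (ZMod p) Z := AddCommGroup.zmodModule hexp
  exact exists_functional_mod z hz

theorem finrank_eq {V : Type*} [AddCommGroup V] {p q : ℕ} [Fact p.Prime] [Module (ZMod p) V]
    [Finite V] (h : Nat.card V = p ^ q) : finrank (ZMod p) V = q := by
  have : Module.Finite (ZMod p) V := Module.Finite.of_finite
  rw [Module.natCard_eq_pow_finrank (K := ZMod p) (V := V), Nat.card_zmod] at h
  exact Nat.pow_right_injective (Fact.out : p.Prime).two_le h

theorem exists_functional_comm {Z : Type*} [CommGroup Z] {p : ℕ} [Fact p.Prime]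
    (hexp : ∀ a : Z, a ^ p = 1) (z : Z) (hz : z ≠ 1) :
    ∃ l : Z →* Multiplicative (ZMod p), l z ≠ 1 := by
  obtain ⟨l, hl⟩ := exists_functional_add (Z := Additive Z) (p := p) (fun a => hexp a.toMul)
    (Additive.ofMul z) hz
  exact ⟨AddMonoidHom.toMultiplicativeRight l, fun h => hl h⟩

theorem exists_functional {Z : Type*} [Group Z] {p : ℕ} [Fact p.Prime]
    (hcomm : ∀ a b : Z, a * b = b * a) (hexp : ∀ a : Z, a ^ p = 1) (z : Z) (hz : z ≠ 1) :
    ∃ l : Z →* Multiplicative (ZMod p), l z ≠ 1 :=
  @exists_functional_comm Z { (inferInstance : Group Z) with mul_comm := hcomm } p _ hexp z hz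

section pairing

variable {H : Type*} [Group H]

theorem comm_mul_left (hcent : _root_.commutator H ≤ center H) (x x' y : H) :
    ⁅x * x', y⁆ = ⁅x, y⁆ * ⁅x', y⁆ := by
  have h : ⁅x', y⁆ ∈ center H := hcent (commutator_mem_commutator (mem_top _) (mem_top _))
  have h' := mem_center_iff.mp h
  calc ⁅x * x', y⁆ = x * ⁅x', y⁆ * x⁻¹ * ⁅x, y⁆ := by simp only [commutatorElement_def]; group
    _ = ⁅x', y⁆ * ⁅x, y⁆ := by rw [h' x, mul_inv_cancel_right]
    _ = _ := (h' _).symm

theorem comm_mul_right (hcent : _root_.commutator H ≤ center H) (x y y' : H) :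
    ⁅x, y * y'⁆ = ⁅x, y⁆ * ⁅x, y'⁆ := by
  have h : ⁅x, y'⁆ ∈ center H := hcent (commutator_mem_commutator (mem_top _) (mem_top _))
  have h' := mem_center_iff.mp h
  calc ⁅x, y * y'⁆ = ⁅x, y⁆ * (y * ⁅x, y'⁆ * y⁻¹) := by simp only [commutatorElement_def]; group
    _ = _ := by rw [h' y, mul_inv_cancel_right]

theorem comm_pow_left (hcent : _root_.commutator H ≤ center H) (x y : H) (n : ℕ) :
    ⁅x ^ n, y⁆ = ⁅x, y⁆ ^ n := by
  induction n with
  | zero => simp
  | succ n ih => rw [pow_succ, comm_mul_left hcent, ih, pow_succ]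

theorem pow_eq_one {p : ℕ} (hcent : _root_.commutator H ≤ center H)
    (hpow : ∀ x : H, x ^ p ∈ _root_.commutator H) : ∀ z ∈ _root_.commutator H, z ^ p = 1 := by
  intro z hz
  rw [commutator_eq_closure] at hz
  have hz' : z ∈ center H := by
    apply hcent; rw [commutator_eq_closure]; exact hz
  refine closure_induction (p := fun z _ => z ^ p = 1) ?_ ?_ ?_ ?_ hz
  · rintro _ ⟨x, y, rfl⟩
    rw [← comm_pow_left hcent, commutatorElement_eq_one_iff_mul_comm]
    exact (mem_center_iff.mp (hcent (hpow x)) y).symm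
  · exact one_pow _
  · intro a b ha hb h1 h2
    have : a ∈ center H := by apply hcent; rw [commutator_eq_closure]; exact ha
    have hab : Commute a b := (mem_center_iff.mp this b).symm
    rw [hab.mul_pow, h1, h2, one_mul]
  · intro a _ h1
    rw [inv_pow, h1, inv_one]

/-- The commutator pairing composed with a functional. -/
theorem exists_pairing {p : ℕ} (hcent : _root_.commutator H ≤ center H)
    (l : ↥(_root_.commutator H) →* Multiplicative (ZMod p)) :
    ∃ F : Abelianization H →* (Abelianization H →* Multiplicative (ZMod p)),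
      ∀ x y : H, F (Abelianization.of x) (Abelianization.of y) =
        l ⟨⁅x, y⁆, commutator_mem_commutator (mem_top _) (mem_top _)⟩ := by
  let c : H → H → ↥(_root_.commutator H) := fun x y =>
    ⟨⁅x, y⁆, commutator_mem_commutator (mem_top _) (mem_top _)⟩
  have hc1 : ∀ x x' y, c (x * x') y = c x y * c x' y := fun x x' y =>
    Subtype.ext (comm_mul_left hcent x x' y)
  have hc2 : ∀ x y y', c x (y * y') = c x y * c x y' := fun x y y' =>
    Subtype.ext (comm_mul_right hcent x y y')
  let F1 : H → (H →* Multiplicative (ZMod p)) := fun x =>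
    MonoidHom.mk' (fun y => l (c x y)) (fun y y' => by rw [hc2, map_mul])
  let F2 : H →* (Abelianization H →* Multiplicative (ZMod p)) :=
    MonoidHom.mk' (fun x => Abelianization.lift (F1 x)) (fun x x' => by
      apply Abelianization.hom_ext
      ext y
      show l (c (x * x') y) = l (c x y) * l (c x' y)
      rw [hc1, map_mul])
  exact ⟨Abelianization.lift F2, fun x y => rfl⟩

end pairing

theorem of_surj {H : Type*} [Group H] (a : Abelianization H) : ∃ h : H, Abelianization.of h = a :=
  QuotientGroup.mk_surjective a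

theorem of_eq_one {H : Type*} [Group H] (h : H) :
    Abelianization.of h = 1 ↔ h ∈ _root_.commutator H :=
  QuotientGroup.eq_one_iff h

theorem aux {H : Type*} [Group H] [Finite H] {p q : ℕ} [Fact p.Prime]
    [Module (ZMod p) (Additive (Abelianization H))]
    (hcent : _root_.commutator H ≤ center H) (hpow : ∀ x : H, x ^ p ∈ _root_.commutator H)
    (hcard : (_root_.commutator H).index = p ^ q) (hq : q.Prime) (hqo : Odd q)
    {X : Type*} [Group X] (φ : X →* MulAut H) (U : Subgroup X) (hUo : Odd (Nat.card U))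
    (w : X) (hw : w ^ q = 1) (hwU : ∀ u ∈ U, w * u * w⁻¹ ∈ U) (hwU' : ∀ u ∈ U, w⁻¹ * u * w ∈ U)
    (hU : ∀ u ∈ U, ∀ h ∈ _root_.commutator H, φ u h = h)
    (hirr : ∀ K : Subgroup H, _root_.commutator H ≤ K → (∀ u ∈ U, ∀ k ∈ K, φ u k ∈ K) →
      (∀ k ∈ K, φ w k ∈ K) → K = _root_.commutator H ∨ K = ⊤)
    (hnt : ∃ u ∈ U, ∃ h : H, (φ u h) * h⁻¹ ∉ _root_.commutator H) :
    _root_.commutator H = ⊥ := by
  classical
  by_contra hne
  -- a nontrivial commutator
  obtain ⟨x₀, y₀, h₀⟩ : ∃ x y : H, ⁅x, y⁆ ≠ 1 := by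
    by_contra hcon
    push Not at hcon
    apply hne
    rw [_root_.commutator_def, eq_bot_iff, commutator_le]
    intro a _ b _
    rw [hcon a b]; exact one_mem _
  obtain ⟨l, hl⟩ := exists_functional (Z := ↥(_root_.commutator H)) (p := p)
    (fun a b => Subtype.ext (mem_center_iff.mp (hcent b.2) a))
    (fun a => Subtype.ext (pow_eq_one hcent hpow a a.2))
    ⟨⁅x₀, y₀⁆, commutator_mem_commutator (mem_top _) (mem_top _)⟩
    (fun h => h₀ (congrArg Subtype.val h))
  obtain ⟨P, hP⟩ := exists_pairing hcent l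
  have hofsurj : ∀ v : Additive (Abelianization H),
      ∃ h : H, v = Additive.ofMul (Abelianization.of h) := by
    intro v
    obtain ⟨y, hy⟩ := of_surj v.toMul
    exact ⟨y, by
      have : Additive.ofMul v.toMul = v := rfl
      rw [← this, ← hy]⟩
  have hfinite : Finite (Additive (Abelianization H)) :=
    inferInstanceAs (Finite (H ⧸ _root_.commutator H))
  have hfd : Module.Finite (ZMod p) (Additive (Abelianization H)) := Module.Finite.of_finite
  have hdim : finrank (ZMod p) (Additive (Abelianization H)) = q := finrank_eq hcard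
  -- the action
  let ρ : X →* (Additive (Abelianization H) →ₗ[ZMod p] Additive (Abelianization H)) :=
    { toFun := fun x => AddMonoidHom.toZModLinearMap p
        (MonoidHom.toAdditive (Abelianization.map (φ x).toMonoidHom))
      map_one' := by
        refine LinearMap.ext fun v => ?_
        obtain ⟨h, rfl⟩ := hofsurj v
        show Additive.ofMul (Abelianization.of ((φ 1) h)) = Additive.ofMul (Abelianization.of h)
        rw [map_one]; rfl
      map_mul' := fun x y => by
        refine LinearMap.ext fun v => ?_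
        obtain ⟨h, rfl⟩ := hofsurj v
        show Additive.ofMul (Abelianization.of ((φ (x * y)) h)) =
          Additive.ofMul (Abelianization.of ((φ x) ((φ y) h)))
        rw [map_mul]; rfl }
  have hρ : ∀ x h, ρ x (Additive.ofMul (Abelianization.of h)) =
      Additive.ofMul (Abelianization.of (φ x h)) := fun x h => rfl
  -- the form
  let B : LinearMap.BilinForm (ZMod p) (Additive (Abelianization H)) :=
    LinearMap.mk₂ (ZMod p) (fun x y : Additive (Abelianization H) =>
      (Multiplicative.toAdd (P x.toMul y.toMul) : ZMod p))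
      (fun x x' y => by
        rw [toMul_add, map_mul]; rfl)
      (fun c x y => by
        obtain ⟨n, rfl⟩ : ∃ n : ℕ, (n : ZMod p) = c := ⟨c.val, ZMod.natCast_zmod_val c⟩
        rw [Nat.cast_smul_eq_nsmul, Nat.cast_smul_eq_nsmul, toMul_nsmul, map_pow]; rfl)
      (fun x y y' => by
        rw [toMul_add, map_mul]; rfl)
      (fun c x y => by
        obtain ⟨n, rfl⟩ : ∃ n : ℕ, (n : ZMod p) = c := ⟨c.val, ZMod.natCast_zmod_val c⟩
        rw [Nat.cast_smul_eq_nsmul, Nat.cast_smul_eq_nsmul, toMul_nsmul, map_pow]; rfl)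
  have hBdef : ∀ x y : H, B (Additive.ofMul (Abelianization.of x))
      (Additive.ofMul (Abelianization.of y)) = Multiplicative.toAdd
        (l ⟨⁅x, y⁆, commutator_mem_commutator (mem_top _) (mem_top _)⟩) := by
    intro x y
    rw [← hP x y]; rfl
  have hBalt : B.IsAlt := by
    intro v
    obtain ⟨h, rfl⟩ := hofsurj v
    rw [hBdef]
    have : (⟨⁅h, h⁆, commutator_mem_commutator (mem_top _) (mem_top _)⟩ :
        ↥(_root_.commutator H)) = 1 := Subtype.ext (commutatorElement_self h)
    rw [this, map_one]; rfl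
  have hB0 : B ≠ 0 := by
    intro h
    apply hl
    have h1 := hBdef x₀ y₀
    rw [h] at h1
    exact h1.symm
  have hBU : ∀ u ∈ U, ∀ x y, B (ρ u x) (ρ u y) = B x y := by
    intro u hu x y
    obtain ⟨x, rfl⟩ := hofsurj x
    obtain ⟨y, rfl⟩ := hofsurj y
    rw [hρ, hρ, hBdef, hBdef]
    congr 2
    apply Subtype.ext
    show ⁅φ u x, φ u y⁆ = ⁅x, y⁆
    rw [← map_commutatorElement]
    exact hU u hu _ (commutator_mem_commutator (mem_top _) (mem_top _))
  have hcore := LinearCore.core hUo ρ hq hqo hdim hw hwU hwU' B hBalt hB0 hBU (by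
    intro W hWU hWw
    -- the corresponding subgroup
    let K : Subgroup H := (AddSubgroup.toSubgroup' W.toAddSubgroup).comap Abelianization.of
    have hK : ∀ h : H, h ∈ K ↔ Additive.ofMul (Abelianization.of h) ∈ W := fun h => Iff.rfl
    have hcK : _root_.commutator H ≤ K := by
      intro h hh
      rw [hK]
      have : Abelianization.of h = 1 := (of_eq_one h).mpr hh
      rw [this]; exact W.zero_mem
    rcases hirr K hcK (fun u hu k hk => by rw [hK, ← hρ]; exact hWU u hu _ hk)
      (fun k hk => by rw [hK, ← hρ]; exact hWw _ hk) with h | h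
    · left
      rw [eq_bot_iff]
      intro v hv
      obtain ⟨x, rfl⟩ := hofsurj v
      have hx : x ∈ _root_.commutator H := by rw [← h]; exact hv
      have : Abelianization.of x = 1 := (of_eq_one x).mpr hx
      rw [this]; exact Submodule.zero_mem _
    · right
      rw [eq_top_iff]
      intro v _
      obtain ⟨x, rfl⟩ := hofsurj v
      have hx : x ∈ K := by rw [h]; exact mem_top _
      exact hx)
  obtain ⟨u, hu, h, hh⟩ := hnt
  apply hh
  have h1 := hcore u hu (Additive.ofMul (Abelianization.of h))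
  rw [hρ] at h1
  have h2 : Abelianization.of (φ u h) = Abelianization.of h := h1
  have h3 : Abelianization.of (φ u h * h⁻¹) = 1 := by
    rw [map_mul, map_inv, h2, mul_inv_cancel]
  exact (of_eq_one _).mp h3

theorem commutator_eq_bot {H : Type*} [Group H] [Finite H] {p q : ℕ} [Fact p.Prime]
    (hcent : _root_.commutator H ≤ center H) (hpow : ∀ x : H, x ^ p ∈ _root_.commutator H)
    (hcard : (_root_.commutator H).index = p ^ q) (hq : q.Prime) (hqo : Odd q)
    {X : Type*} [Group X] (φ : X →* MulAut H) (U : Subgroup X) (hUo : Odd (Nat.card U))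
    (w : X) (hw : w ^ q = 1) (hwU : ∀ u ∈ U, w * u * w⁻¹ ∈ U) (hwU' : ∀ u ∈ U, w⁻¹ * u * w ∈ U)
    (hU : ∀ u ∈ U, ∀ h ∈ _root_.commutator H, φ u h = h)
    (hirr : ∀ K : Subgroup H, _root_.commutator H ≤ K → (∀ u ∈ U, ∀ k ∈ K, φ u k ∈ K) →
      (∀ k ∈ K, φ w k ∈ K) → K = _root_.commutator H ∨ K = ⊤)
    (hnt : ∃ u ∈ U, ∃ h : H, (φ u h) * h⁻¹ ∉ _root_.commutator H) :
    _root_.commutator H = ⊥ := by
  have hV : ∀ x : Additive (Abelianization H), p • x = 0 := by
    intro x
    obtain ⟨y, hy⟩ := of_surj x.toMul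
    have h1 : (x.toMul) ^ p = 1 := by
      rw [← hy, ← map_pow, of_eq_one]
      exact hpow y
    rw [← toMul_nsmul] at h1
    exact h1
  let _ : Module (ZMod p) (Additive (Abelianization H)) := AddCommGroup.zmodModule hV
  exact aux hcent hpow hcard hq hqo φ U hUo w hw hwU hwU' hU hirr hnt

end Cfsg.Agent.OddOrderCharacters.PF11.ClassTwo
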