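import Mathlib
import Cfsg.Prelude.Def_OddOrderChar
import Cfsg.Agent.OddOrderCharacters.CoherenceBasic

/-!
# Gluing two coherent sets (`bridge_coherent`)

`S₁`, `S₂` are orthogonal sets of characters of `L` carrying linear isometries `τ₁`, `τ₂` extending `τ` on the
combinations of degree zero, with `τ₁ S₁` orthogonal to `τ₂ S₂`.  If the two are linked by one relation
`τ (a₂ - a₁) = τ₂ a₂ - τ₁ a₁` with `a₁ ∈ ℤ[S₁]`, `a₂ ∈ ℤ[S₂]` of the same nonzero degree, then `τ₁` and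
`τ₂` glue to a linear isometry on `ℤ[S₁ ∪ S₂]` extending `τ` on the combinations of degree zero.
-/

set_option autoImplicit false

open Cfsg Cfsg.Agent.Characters.Core Cfsg.Agent.OddOrderCharacters.CoherenceBasic

namespace Cfsg.Agent.OddOrderCharacters.PF11.GluePieces

universe u v

variable {L : Type u} [Group L] [Fintype L] {G : Type v} [Group G] [Fintype G]
variable {S₁ S₂ : Set (L → ℂ)} {τ τ₁ τ₂ : (L → ℂ) → (G → ℂ)}

/-- Orthogonality of the images passes to the spans. -/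
theorem inner_map_zspan (hτ₁ : IsLinearIsometryOn (zspan S₁) τ₁)
    (hτ₂ : IsLinearIsometryOn (zspan S₂) τ₂)
    (h12 : ∀ ξ ∈ S₁, ∀ ψ ∈ S₂, classInner (τ₁ ξ) (τ₂ ψ) = 0) {a b : L → ℂ} (ha : a ∈ zspan S₁)
    (hb : b ∈ zspan S₂) : classInner (τ₁ a) (τ₂ b) = 0 := by
  have key : a ∈ zspan S₁ ∧ ∀ c ∈ zspan S₂, classInner (τ₁ a) (τ₂ c) = 0 := by
    refine zspan_induction
      (p := fun x => x ∈ zspan S₁ ∧ ∀ c ∈ zspan S₂, classInner (τ₁ x) (τ₂ c) = 0) ?_ ?_ ?_ ?_ ha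
    · intro x hx
      refine ⟨mem_zspan hx, fun c hc => ?_⟩
      have key2 : c ∈ zspan S₂ ∧ classInner (τ₁ x) (τ₂ c) = 0 := by
        refine zspan_induction (p := fun y => y ∈ zspan S₂ ∧ classInner (τ₁ x) (τ₂ y) = 0)
          ?_ ?_ ?_ ?_ hc
        · exact fun y hy => ⟨mem_zspan hy, h12 x hx y hy⟩
        · exact ⟨zspan_zero, by rw [isom_zero hτ₂ zspan_zero, classInner_zero_right]⟩
        · rintro y z ⟨hy, hy'⟩ ⟨hz, hz'⟩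
          exact ⟨zspan_add hy hz, by rw [isom_add hτ₂ hy hz, classInner_add_right, hy', hz', add_zero]⟩
        · rintro y ⟨hy, hy'⟩
          exact ⟨zspan_neg hy, by rw [isom_neg hτ₂ hy, classInner_neg_right, hy', neg_zero]⟩
      exact key2.2
    · exact ⟨zspan_zero, fun c _ => by rw [isom_zero hτ₁ zspan_zero, classInner_zero_left]⟩
    · rintro y z ⟨hy, hy'⟩ ⟨hz, hz'⟩
      exact ⟨zspan_add hy hz, fun c hc => by
        rw [isom_add hτ₁ hy hz, classInner_add_left, hy' c hc, hz' c hc, add_zero]⟩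
    · rintro y ⟨hy, hy'⟩
      exact ⟨zspan_neg hy, fun c hc => by
        rw [isom_neg hτ₁ hy, classInner_neg_left, hy' c hc, neg_zero]⟩
  exact key.2 b hb

theorem inner_swap {a b : G → ℂ} (h : classInner a b = 0) : classInner b a = 0 := by
  rw [← classInner_conj_symm, h, map_zero]

/-- **Gluing lemma** (`bridge_coherent` of the Coq development, for the support `L \ 1`). -/
theorem exists_glue (hch₁ : ∀ ξ ∈ S₁, IsCharacter L ξ) (hch₂ : ∀ ξ ∈ S₂, IsCharacter L ξ)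
    (hτ : IsLinearIsometryOn (zspanOn (S₁ ∪ S₂) {1}ᶜ) τ)
    (hτ₁ : IsLinearIsometryOn (zspan S₁) τ₁) (hag₁ : ∀ α ∈ zspanOn S₁ {1}ᶜ, τ₁ α = τ α)
    (hτ₂ : IsLinearIsometryOn (zspan S₂) τ₂) (hag₂ : ∀ α ∈ zspanOn S₂ {1}ᶜ, τ₂ α = τ α)
    (h12 : ∀ ξ ∈ S₁, ∀ ψ ∈ S₂, classInner ξ ψ = 0)
    (h12' : ∀ ξ ∈ S₁, ∀ ψ ∈ S₂, classInner (τ₁ ξ) (τ₂ ψ) = 0)
    {a₁ a₂ : L → ℂ} (ha₁ : a₁ ∈ zspan S₁) (ha₂ : a₂ ∈ zspan S₂) (h1 : a₁ 1 = a₂ 1)
    (hne : a₁ 1 ≠ 0) (hbr : τ (a₂ - a₁) = τ₂ a₂ - τ₁ a₁) :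
    ∃ τ₃ : (L → ℂ) → (G → ℂ), IsLinearIsometryOn (zspan (S₁ ∪ S₂)) τ₃ ∧
      (∀ α ∈ zspanOn (S₁ ∪ S₂) {1}ᶜ, τ₃ α = τ α) ∧ (∀ α ∈ zspan S₁, τ₃ α = τ₁ α) ∧
      (∀ α ∈ zspan S₂, τ₃ α = τ₂ α) := by
  classical
  -- the sum is direct
  have hdir : ∀ b ∈ zspan S₁, ∀ c ∈ zspan S₂, ∀ b' ∈ zspan S₁, ∀ c' ∈ zspan S₂,
      b + c = b' + c' → b = b' ∧ c = c' := by
    intro b hb c hc b' hb' c' hc' h
    have e : b - b' = c' - c := by
      have := h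
      rw [← sub_eq_zero] at this ⊢
      rw [← this]; abel
    have h0 : classInner (b - b') (b - b') = 0 := by
      nth_rewrite 2 [e]
      exact inner_zspan_eq_zero h12 (zspan_sub hb hb') (zspan_sub hc' hc)
    have h2 : b - b' = 0 := classInner_self_eq_zero h0
    refine ⟨sub_eq_zero.mp h2, ?_⟩
    rw [h2] at e
    exact (sub_eq_zero.mp e.symm).symm
  have hdec : ∀ a ∈ zspan (S₁ ∪ S₂), ∃ b ∈ zspan S₁, ∃ c ∈ zspan S₂, b + c = a :=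
    fun a ha => mem_zspan_union.mp ha
  choose! f hf g hg hfg using hdec
  set τ₃ : (L → ℂ) → (G → ℂ) := fun a => τ₁ (f a) + τ₂ (g a) with hτ₃
  have hval : ∀ b ∈ zspan S₁, ∀ c ∈ zspan S₂, τ₃ (b + c) = τ₁ b + τ₂ c := by
    intro b hb c hc
    have hm : b + c ∈ zspan (S₁ ∪ S₂) := mem_zspan_union.mpr ⟨b, hb, c, hc, rfl⟩
    obtain ⟨e1, e2⟩ := hdir _ (hf _ hm) _ (hg _ hm) b hb c hc (hfg _ hm)
    show τ₁ (f (b + c)) + τ₂ (g (b + c)) = _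
    rw [e1, e2]
  have hcross : ∀ b ∈ zspan S₁, ∀ c ∈ zspan S₂, classInner (τ₁ b) (τ₂ c) = 0 :=
    fun b hb c hc => inner_map_zspan hτ₁ hτ₂ h12' hb hc
  have hiso : IsLinearIsometryOn (zspan (S₁ ∪ S₂)) τ₃ := by
    refine ⟨?_, ?_, ?_, ?_⟩
    · intro a ha a' ha'
      obtain ⟨b, hb, c, hc, rfl⟩ := mem_zspan_union.mp ha
      obtain ⟨b', hb', c', hc', rfl⟩ := mem_zspan_union.mp ha'
      have e : b + c + (b' + c') = (b + b') + (c + c') := by abel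
      rw [e, hval _ (zspan_add hb hb') _ (zspan_add hc hc'), hval b hb c hc, hval b' hb' c' hc',
        isom_add hτ₁ hb hb', isom_add hτ₂ hc hc']
      abel
    · intro a ha n
      obtain ⟨b, hb, c, hc, rfl⟩ := mem_zspan_union.mp ha
      rw [smul_add, hval _ (zspan_zsmul n hb) _ (zspan_zsmul n hc), hval b hb c hc,
        isom_zsmul hτ₁ n hb, isom_zsmul hτ₂ n hc, smul_add]
    · intro a ha a' ha'
      obtain ⟨b, hb, c, hc, rfl⟩ := mem_zspan_union.mp ha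
      obtain ⟨b', hb', c', hc', rfl⟩ := mem_zspan_union.mp ha'
      rw [hval b hb c hc, hval b' hb' c' hc', classInner_add_left, classInner_add_right,
        classInner_add_right, hcross b hb c' hc', inner_swap (hcross b' hb' c hc),
        isom_inner hτ₁ hb hb', isom_inner hτ₂ hc hc', classInner_add_left, classInner_add_right,
        classInner_add_right, inner_zspan_eq_zero h12 hb hc',
        inner_swap (inner_zspan_eq_zero h12 hb' hc)]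
    · intro a ha
      obtain ⟨b, hb, c, hc, rfl⟩ := mem_zspan_union.mp ha
      rw [hval b hb c hc]
      exact gen_add (isom_gen hτ₁ hb) (isom_gen hτ₂ hc)
  refine ⟨τ₃, hiso, ?_, ?_, ?_⟩
  · intro a ha
    obtain ⟨ha, ha0⟩ := mem_zspanOn_compl_one.mp ha
    obtain ⟨b, hb, c, hc, rfl⟩ := mem_zspan_union.mp ha
    obtain ⟨m, hm⟩ := exists_int_apply_one hch₁ hb
    obtain ⟨n, hn⟩ := exists_int_apply_one hch₂ hc
    obtain ⟨d, hd⟩ := exists_int_apply_one hch₁ ha₁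
    have hd' : a₂ 1 = d := h1 ▸ hd
    have hd0 : d ≠ 0 := by
      rintro rfl
      exact hne (by rw [hd]; simp)
    have hnm : n = -m := by
      have : ((m + n : ℤ) : ℂ) = 0 := by
        push_cast
        rw [← hm, ← hn]; exact ha0
      have h3 : m + n = 0 := by exact_mod_cast this
      omega
    subst hnm
    -- the three pieces
    have hm₁ : d • b - m • a₁ ∈ zspanOn S₁ {1}ᶜ := by
      rw [mem_zspanOn_compl_one]
      refine ⟨zspan_sub (zspan_zsmul _ hb) (zspan_zsmul _ ha₁), ?_⟩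
      rw [Pi.sub_apply, Pi.smul_apply, Pi.smul_apply, hm, hd, zsmul_eq_mul, zsmul_eq_mul]
      ring
    have hm₂ : d • c + m • a₂ ∈ zspanOn S₂ {1}ᶜ := by
      rw [mem_zspanOn_compl_one]
      refine ⟨zspan_add (zspan_zsmul _ hc) (zspan_zsmul _ ha₂), ?_⟩
      rw [Pi.add_apply, Pi.smul_apply, Pi.smul_apply, hn, hd', zsmul_eq_mul, zsmul_eq_mul]
      push_cast
      ring
    have hm₃ : a₂ - a₁ ∈ zspanOn (S₁ ∪ S₂) {1}ᶜ := by
      rw [mem_zspanOn_compl_one]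
      refine ⟨zspan_sub (zspan_mono Set.subset_union_right ha₂)
        (zspan_mono Set.subset_union_left ha₁), ?_⟩
      rw [Pi.sub_apply, h1, sub_self]
    have hm₁' := zspanOn_mono (T := S₁ ∪ S₂) Set.subset_union_left hm₁
    have hm₂' := zspanOn_mono (T := S₁ ∪ S₂) Set.subset_union_right hm₂
    have hbc : b + c ∈ zspanOn (S₁ ∪ S₂) {1}ᶜ := mem_zspanOn_compl_one.mpr ⟨ha, ha0⟩
    have e : d • (b + c) = ((d • b - m • a₁) + (d • c + m • a₂)) - m • (a₂ - a₁) := by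
      rw [smul_add, smul_sub]; abel
    have h4 : τ (d • (b + c)) = d • (τ₁ b + τ₂ c) := by
      rw [e, isomOn_sub hτ (zspanOn_add hm₁' hm₂') (zspanOn_zsmul m hm₃), isom_add hτ hm₁' hm₂',
        isom_zsmul hτ m hm₃, hbr, ← hag₁ _ hm₁, ← hag₂ _ hm₂,
        isom_sub hτ₁ (zspan_zsmul _ hb) (zspan_zsmul _ ha₁), isom_zsmul hτ₁ _ hb,
        isom_zsmul hτ₁ _ ha₁, isom_add hτ₂ (zspan_zsmul _ hc) (zspan_zsmul _ ha₂),
        isom_zsmul hτ₂ _ hc, isom_zsmul hτ₂ _ ha₂, smul_sub, smul_add]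
      abel
    rw [isom_zsmul hτ d hbc] at h4
    rw [hval b hb c hc]
    exact (smul_right_injective (G → ℂ) hd0 h4).symm
  · intro a ha
    have := hval a ha 0 zspan_zero
    rwa [add_zero, isom_zero hτ₂ zspan_zero, add_zero] at this
  · intro a ha
    have := hval 0 zspan_zero a ha
    rwa [zero_add, isom_zero hτ₁ zspan_zero, zero_add] at this

/-- The bridge lemma as a coherence statement. -/
theorem bridge_coherent (hch₁ : ∀ ξ ∈ S₁, IsCharacter L ξ) (hch₂ : ∀ ξ ∈ S₂, IsCharacter L ξ)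
    (hτ : IsLinearIsometryOn (zspanOn (S₁ ∪ S₂) {1}ᶜ) τ)
    (hτ₁ : IsLinearIsometryOn (zspan S₁) τ₁) (hag₁ : ∀ α ∈ zspanOn S₁ {1}ᶜ, τ₁ α = τ α)
    (hτ₂ : IsLinearIsometryOn (zspan S₂) τ₂) (hag₂ : ∀ α ∈ zspanOn S₂ {1}ᶜ, τ₂ α = τ α)
    (h12 : ∀ ξ ∈ S₁, ∀ ψ ∈ S₂, classInner ξ ψ = 0)
    (h12' : ∀ ξ ∈ S₁, ∀ ψ ∈ S₂, classInner (τ₁ ξ) (τ₂ ψ) = 0)
    {a₁ a₂ : L → ℂ} (ha₁ : a₁ ∈ zspan S₁) (ha₂ : a₂ ∈ zspan S₂) (h1 : a₁ 1 = a₂ 1)
    (hne : a₁ 1 ≠ 0) (hbr : τ (a₂ - a₁) = τ₂ a₂ - τ₁ a₁) : IsCoherent (S₁ ∪ S₂) {1}ᶜ τ := by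
  obtain ⟨τ₃, h3, h4, -, -⟩ := exists_glue hch₁ hch₂ hτ hτ₁ hag₁ hτ₂ hag₂ h12 h12' ha₁ ha₂ h1 hne hbr
  refine ⟨⟨a₂ - a₁, ?_, ?_⟩, τ₃, h3, h4⟩
  · rw [mem_zspanOn_compl_one]
    refine ⟨zspan_sub (zspan_mono Set.subset_union_right ha₂)
      (zspan_mono Set.subset_union_left ha₁), ?_⟩
    rw [Pi.sub_apply, h1, sub_self]
  · intro h
    apply hne
    have e : a₂ = a₁ := sub_eq_zero.mp h
    have h0 : classInner a₁ a₁ = 0 := by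
      nth_rewrite 2 [← e]
      exact inner_zspan_eq_zero h12 ha₁ ha₂
    rw [classInner_self_eq_zero h0]; rfl

/-- The bridge lemma, for a bridge between single members `ζ ∈ S₁`, `ψ ∈ S₂`:
`τ (ζ(1) ψ - ψ(1) ζ) = ζ(1) τ₂ ψ - ψ(1) τ₁ ζ`. -/
theorem bridge_coherent_mem (hch₁ : ∀ ξ ∈ S₁, IsCharacter L ξ) (hch₂ : ∀ ξ ∈ S₂, IsCharacter L ξ)
    (hτ : IsLinearIsometryOn (zspanOn (S₁ ∪ S₂) {1}ᶜ) τ)
    (hτ₁ : IsLinearIsometryOn (zspan S₁) τ₁) (hag₁ : ∀ α ∈ zspanOn S₁ {1}ᶜ, τ₁ α = τ α)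
    (hτ₂ : IsLinearIsometryOn (zspan S₂) τ₂) (hag₂ : ∀ α ∈ zspanOn S₂ {1}ᶜ, τ₂ α = τ α)
    (h12 : ∀ ξ ∈ S₁, ∀ ψ ∈ S₂, classInner ξ ψ = 0)
    (h12' : ∀ ξ ∈ S₁, ∀ ψ ∈ S₂, classInner (τ₁ ξ) (τ₂ ψ) = 0)
    {ζ ψ : L → ℂ} (hζ : ζ ∈ S₁) (hψ : ψ ∈ S₂) {d e : ℤ} (hd : ζ 1 = d) (he : ψ 1 = e)
    (hd0 : d ≠ 0) (he0 : e ≠ 0) (hbr : τ (d • ψ - e • ζ) = d • τ₂ ψ - e • τ₁ ζ) :
    IsCoherent (S₁ ∪ S₂) {1}ᶜ τ := by
  refine bridge_coherent hch₁ hch₂ hτ hτ₁ hag₁ hτ₂ hag₂ h12 h12' (a₁ := e • ζ) (a₂ := d • ψ)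
    (zspan_zsmul _ (mem_zspan hζ)) (zspan_zsmul _ (mem_zspan hψ)) ?_ ?_ ?_
  · rw [Pi.smul_apply, Pi.smul_apply, hd, he, zsmul_eq_mul, zsmul_eq_mul, mul_comm]
  · rw [Pi.smul_apply, hd, zsmul_eq_mul]
    exact mul_ne_zero (Int.cast_ne_zero.mpr he0) (Int.cast_ne_zero.mpr hd0)
  · rw [hbr, isom_zsmul hτ₁ _ (mem_zspan hζ), isom_zsmul hτ₂ _ (mem_zspan hψ)]

end Cfsg.Agent.OddOrderCharacters.PF11.GluePieces
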