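import Cfsg.Agent.OddOrderCharacters.PF11.Ctx
import Cfsg.Agent.OddOrderCharacters.PF11.GluePieces
import Cfsg.Agent.OddOrderCharacters.PF4b.CohExt2

/-!
# Peterfalvi (11.8): from the "column" form of `τ (μ_j - u ζ)` to coherence of `S₁ ∪ S₂`
-/

set_option autoImplicit false
set_option linter.unusedSectionVars false

open scoped ComplexConjugate
open Cfsg Cfsg.Agent.Characters.Core Cfsg.Agent.OddOrderCharacters.VChar
  Cfsg.Agent.OddOrderCharacters.PFDefs Cfsg.Agent.OddOrderCharacters.ColSum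
  Cfsg.Agent.OddOrderCharacters.Galois
  Cfsg.Agent.OddOrderCharacters.PF4b.TIFam Cfsg.Agent.OddOrderCharacters.PF4b.Prime
  Cfsg.Agent.OddOrderCharacters.PF11.Ctx

namespace Cfsg.Agent.OddOrderCharacters.PF11.Column

universe u

variable {G : Type u} [Group G] [Fintype G] {L K W W₁ W₂ : Subgroup G} [Fintype ↥L]
  {A A₀ : Set G} {R : G → Subgroup G}
  {μ : (↥W →* ℂˣ) → (↥L → ℂ)} {δ : (↥W →* ℂˣ) → ℤ} {η : (↥W →* ℂˣ) → (G → ℂ)}
  {p q n u : ℕ} {S₁ S₂ : Set (↥L → ℂ)} {t : (↥L → ℂ) → (G → ℂ)}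

section
variable (c : Ctx L K W W₁ W₂ A A₀ R μ δ η p q n u S₁ S₂ t)
include c

theorem exists_notMem_lin₁ : ∃ ω : ↥W →* ℂˣ, ω ∉ lin₁ W W₂ := by
  obtain ⟨ψ, hψ, hψ1, -⟩ := c.hyp10.exists_ne 1
  exact ⟨ψ, PF10.Ctx.notMem_lin₁ c.hD hψ hψ1⟩

theorem disj : Disjoint S₁ S₂ := by
  rw [Set.disjoint_left]
  intro ζ h1 h2
  have h3 := c.orth ζ h1 ζ h2
  rw [classInner_irr_self (c.S₁_irr ζ h1)] at h3
  exact one_ne_zero h3

theorem union_sub : S₁ ∪ S₂ ⊆ seqIndOf L K K ⊥ := Set.union_subset c.S₁_sub c.S₂_sub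

theorem union_conj : ∀ χ ∈ S₁ ∪ S₂, conjFun χ ∈ S₁ ∪ S₂ := by
  rintro χ (h | h)
  · exact Or.inl (c.S₁_conj h)
  · exact Or.inr (c.S₂_conj χ h)

/-- the images of `S₁` and `S₂` under coherent extensions are orthogonal -/
theorem ortho_images {t' τ₂ : (↥L → ℂ) → (G → ℂ)} (hi : IsLinearIsometryOn (zspan S₁) t')
    (he : ∀ α ∈ zspanOn S₁ {1}ᶜ, t' α = dadeIsometry A₀ L R α)
    (hi₂ : IsLinearIsometryOn (zspan S₂) τ₂)
    (he₂ : ∀ α ∈ zspanOn S₂ {1}ᶜ, τ₂ α = dadeIsometry A₀ L R α)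
    {ζ ξ : ↥L → ℂ} (hζ : ζ ∈ S₁) (hξ : ξ ∈ S₂) : classInner (t' ζ) (τ₂ ξ) = 0 := by
  obtain ⟨Rf, hsys, -, -⟩ := PF4b.Subcoherent.prDade_subcoherent c.hD c.hμ c.hη c.oddL
    (union_sub c) ⟨ζ, Or.inl hζ⟩ (union_conj c)
  exact PF4b.CohExt2.coherent_ortho_mem hsys Set.subset_union_left Set.subset_union_right
    (fun _ h => c.S₁_conj h) c.S₂_conj (disj c) hi hi₂ he he₂ hζ hξ

/-- gluing, once `τ₂ μ_j = Σ_i η_ij` -/
theorem glue {t' τ₂ : (↥L → ℂ) → (G → ℂ)} (ht' : IsLinearIsometryOn (zspan S₁) t')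
    (he' : ∀ α ∈ zspanOn S₁ {1}ᶜ, t' α = dadeIsometry A₀ L R α)
    (hcol : ∀ ζ ∈ S₁, ∀ ω, ω ∉ lin₁ W W₂ →
      dadeIsometry A₀ L R (colSum W W₂ μ ω - (u : ℤ) • ζ) = colSum W W₂ η ω - (u : ℤ) • t' ζ)
    (hi₂ : IsLinearIsometryOn (zspan S₂) τ₂)
    (he₂ : ∀ α ∈ zspanOn S₂ {1}ᶜ, τ₂ α = dadeIsometry A₀ L R α)
    (hη₂ : ∀ ω, ω ∉ lin₁ W W₂ → τ₂ (colSum W W₂ μ ω) = colSum W W₂ η ω) :
    IsCoherent (S₁ ∪ S₂) {1}ᶜ (dadeIsometry A₀ L R) := by
  obtain ⟨ζ, hζ⟩ := c.exists_S₁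
  obtain ⟨ω, hω⟩ := exists_notMem_lin₁ c
  have hq : (q : ℂ) ≠ 0 := by
    have := c.q_three
    exact_mod_cast (by omega : q ≠ 0)
  have hu : (u : ℂ) ≠ 0 := by
    have := c.one_lt_u
    exact_mod_cast (by omega : u ≠ 0)
  have h1 : ((u : ℤ) • ζ) 1 = (u : ℂ) * q := by
    rw [Pi.smul_apply, c.S₁_deg ζ hζ, zsmul_eq_mul]
    push_cast
    ring
  refine PF11.GluePieces.bridge_coherent (fun ξ h => PF10.Ctx.S_isCharacter (c.S₁_sub h))
    (fun ξ h => PF10.Ctx.S_isCharacter (c.S₂_sub h)) (prDade_isometry c.hD (union_sub c)).1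
    ht' he' hi₂ he₂ c.orth (fun ξ hξ ψ hψ => ortho_images c ht' he' hi₂ he₂ hξ hψ)
    (a₁ := (u : ℤ) • ζ) (a₂ := colSum W W₂ μ ω)
    (CoherenceBasic.zspan_zsmul _ (CoherenceBasic.mem_zspan hζ))
    (CoherenceBasic.mem_zspan (c.colSum_mem ω hω)) ?_ ?_ ?_
  · rw [h1, c.colSum_one hω]
    ring
  · rw [h1]
    exact mul_ne_zero hu hq
  · rw [hcol ζ hζ ω hω, hη₂ ω hω, CoherenceBasic.isom_zsmul ht' _ (CoherenceBasic.mem_zspan hζ)]

/-- (11.8), second half: the column case gives coherence. -/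
theorem coherent_of_column {t' : (↥L → ℂ) → (G → ℂ)} (ht' : IsLinearIsometryOn (zspan S₁) t')
    (he' : ∀ α ∈ zspanOn S₁ {1}ᶜ, t' α = dadeIsometry A₀ L R α)
    (hcol : ∀ ζ ∈ S₁, ∀ ω, ω ∉ lin₁ W W₂ →
      dadeIsometry A₀ L R (colSum W W₂ μ ω - (u : ℤ) • ζ) = colSum W W₂ η ω - (u : ℤ) • t' ζ)
    (h₂ : IsCoherent S₂ {1}ᶜ (dadeIsometry A₀ L R)) :
    IsCoherent (S₁ ∪ S₂) {1}ᶜ (dadeIsometry A₀ L R) := by
  classical
  by_cases hex : ∃ ξ ∈ S₂, IsIrrCharacter ↥L ξ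
  · obtain ⟨-, τ₂, hi₂, he₂⟩ := h₂
    refine glue c ht' he' hcol hi₂ he₂ ?_
    intro ω hω
    have hωS := c.colSum_mem ω hω
    rcases PF4b.CohExt.coherent_prDade_TIred c.hD c.hμ c.hη c.oddL c.S₂_sub c.S₂_conj hi₂ he₂
      hex hωS with h | h
    · rw [h, c.sgn ω hω]; simp
    exfalso
    obtain ⟨ζ, hζ⟩ := c.exists_S₁
    obtain ⟨ξ, hξ, hξi⟩ := hex
    rw [c.sgn ω hω, Int.cast_one, one_smul] at h
    obtain ⟨b, hb, hb1⟩ := isIrr_apply_one hξi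
    -- the two elements of degree zero
    have zξ := CoherenceBasic.mem_zspan hξ
    have zω := CoherenceBasic.mem_zspan hωS
    set μj := colSum W W₂ μ ω with hμj
    set α : ↥L → ℂ := (b : ℤ) • μj - ((q : ℤ) * u) • ξ with hα
    have hα₂ : α ∈ zspanOn S₂ {1}ᶜ := by
      rw [CoherenceBasic.mem_zspanOn_compl_one]
      refine ⟨CoherenceBasic.zspan_sub (CoherenceBasic.zspan_zsmul _ zω)
        (CoherenceBasic.zspan_zsmul _ zξ), ?_⟩
      rw [hα, Pi.sub_apply, Pi.smul_apply, Pi.smul_apply, hμj, c.colSum_one hω, hb1,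
        zsmul_eq_mul, zsmul_eq_mul]
      push_cast
      ring
    set β : ↥L → ℂ := μj - (u : ℤ) • ζ with hβ
    have hβ₂ : β ∈ zspanOn (S₁ ∪ S₂) {1}ᶜ := by
      rw [CoherenceBasic.mem_zspanOn_compl_one]
      refine ⟨CoherenceBasic.zspan_sub (CoherenceBasic.mem_zspan (Or.inr hωS))
        (CoherenceBasic.zspan_zsmul _ (CoherenceBasic.mem_zspan (Or.inl hζ))), ?_⟩
      rw [hβ, Pi.sub_apply, Pi.smul_apply, hμj, c.colSum_one hω, c.S₁_deg ζ hζ, zsmul_eq_mul]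
      push_cast
      ring
    have hα₃ := CoherenceBasic.zspanOn_mono (T := S₁ ∪ S₂) Set.subset_union_right hα₂
    have hiso := CoherenceBasic.isom_inner (prDade_isometry c.hD (union_sub c)).1 hβ₂ hα₃
    -- the right-hand side
    have hζξ := c.orth ζ hζ ξ hξ
    have hζμ := c.orth ζ hζ μj hωS
    have hξS := c.S₂_sub hξ
    have hμξ : classInner μj ξ = 0 := PF10.Ctx.inner_colSum_zeta c.hD c.hμ hξi hξS ω
    have hμμ : classInner μj μj = (q : ℂ) := by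
      rw [hμj, PF4b.TIFam.inner_colSum_colSum c.hD.primeTI c.hμ, if_pos (fun _ _ => rfl), c.card_W₁]
    have hR : classInner β α = (b : ℂ) * q := by
      rw [hβ, hα]
      simp only [classInner_sub_left, classInner_sub_right, classInner_zsmul_left,
        classInner_zsmul_right, hζξ, hζμ, hμξ, hμμ]
      push_cast
      ring
    -- the left-hand side
    have hL : classInner (dadeIsometry A₀ L R β) (dadeIsometry A₀ L R α) = 0 := by
      rw [hβ, hcol ζ hζ ω hω, ← he₂ α hα₂, hα,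
        CoherenceBasic.isom_sub hi₂ (CoherenceBasic.zspan_zsmul _ zω)
          (CoherenceBasic.zspan_zsmul _ zξ), CoherenceBasic.isom_zsmul hi₂ _ zω,
        CoherenceBasic.isom_zsmul hi₂ _ zξ, h]
      have e1 : classInner (colSum W W₂ η ω) (colSum W W₂ η ω⁻¹) = 0 := by
        rw [PF3bLin.classInner_colSum_colSum c.hD.cyclicTI c.hη.orthonormal, if_neg]
        exact PF4b.Subcoherent.ne_inv_on c.hD.primeTI hω
      have e2 : classInner (colSum W W₂ η ω) (τ₂ ξ) = 0 := by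
        rw [inner_colSum_left c.direct]
        refine Finset.sum_eq_zero fun φ _ => ?_
        exact classInner_comm_eq_zero (PF4b.CohExt.coherent_ortho_cycTIiso c.hD c.hη c.oddL
          c.S₂_sub c.S₂_conj hi₂ he₂ hξ hξi _)
      have e3 : classInner (t' ζ) (colSum W W₂ η ω⁻¹) = 0 := by
        rw [inner_colSum_right c.direct]
        exact Finset.sum_eq_zero fun φ _ => c.t_eta' ht' he' hζ _
      have e4 : classInner (t' ζ) (τ₂ ξ) = 0 := ortho_images c ht' he' hi₂ he₂ hζ hξ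
      simp only [classInner_sub_left, classInner_sub_right, classInner_zsmul_left,
        classInner_zsmul_right, classInner_neg_right, e1, e2, e3, e4]
      ring
    rw [hL, hR] at hiso
    have hq : (q : ℂ) ≠ 0 := by
      have := c.q_three
      exact_mod_cast (by omega : q ≠ 0)
    have hbc : (b : ℂ) ≠ 0 := by exact_mod_cast (by omega : b ≠ 0)
    exact mul_ne_zero hbc hq hiso.symm
  · push Not at hex
    obtain ⟨ω₀, hω₀⟩ := exists_notMem_lin₁ c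
    obtain ⟨τ₂, hi₂, hv₂, he₂⟩ := uniform_prTIred_coherent c.hD c.hμ c.hη hω₀
    have hS : {φ | ∃ ω, ω ∉ lin₁ W W₂ ∧ μ ω 1 = μ ω₀ 1 ∧ φ = colSum W W₂ μ ω} = S₂ := by
      ext φ
      constructor
      · rintro ⟨ω, hω, -, rfl⟩
        exact c.colSum_mem ω hω
      · intro hφ
        rcases c.S₂_cases φ hφ with h | ⟨ω, hω, rfl⟩
        · exact absurd h (hex φ hφ)
        · exact ⟨ω, hω, by rw [c.deg ω hω, c.deg ω₀ hω₀], rfl⟩
    rw [hS] at hi₂ he₂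
    refine glue c ht' he' hcol hi₂ he₂ ?_
    intro ω hω
    rw [hv₂ ω hω (by rw [c.deg ω hω, c.deg ω₀ hω₀]), c.sgn ω hω]
    simp

end

end Cfsg.Agent.OddOrderCharacters.PF11.Column
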