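import Cfsg.Agent.OddOrderCharacters.PF11.Lattice

/-!
# The lattice computation behind Peterfalvi (11.8) and (11.9)

`η i j` are the virtual characters attached to the cyclic TI-subgroup, `t z` the images of the members of
`S(HC)` under a coherent extension, `Θ₀ - t z = τ (μ_0 - ζ_z)` and
`η i j - η i j₀ - n t z + Θ = τ (μ_ij - μ_i0 - n ζ_z)`.
-/

set_option autoImplicit false

namespace Cfsg.Agent.OddOrderCharacters.PF11.Core8

open Cfsg.Agent.OddOrderCharacters.PF11.Lattice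

variable {Λ : Type*} [AddCommGroup Λ]

structure CoreData (B : Λ →ₗ[ℤ] Λ →ₗ[ℤ] ℤ) (Rl : Λ → Prop) {I J Z : Type*} [Fintype I]
    [Fintype J] [Fintype Z] (i₀ : I) (j₀ : J) (q p n : ℕ) (η : I → J → Λ) (t : Z → Λ)
    (Θ₀ Θ : Λ) : Prop where
  hB : IsPosForm B
  cardI : Fintype.card I = q
  cardJ : Fintype.card J = p
  cardZ : Fintype.card Z = n
  q3 : 3 ≤ q
  p3 : 3 ≤ p
  n2 : 2 ≤ n
  n_even : Even n
  ηON : IsON B (fun x : I × J => η x.1 x.2)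
  tON : IsON B t
  tη : ∀ z i j, B (t z) (η i j) = 0
  parity : ∀ x y, Rl x → Rl y → Even (B x y - B x (η i₀ j₀) * B y (η i₀ j₀))
  rlΘ₀ : Rl Θ₀
  rlΘ : Rl Θ
  rlE : Rl (∑ i, η i j₀)
  T₀_norm : ∀ z, B (Θ₀ - t z) (Θ₀ - t z) = q + 1
  Tα_norm : ∀ i j z, j ≠ j₀ → B (η i j - η i j₀ - (n : ℤ) • t z + Θ)
    (η i j - η i j₀ - (n : ℤ) • t z + Θ) = 2 + (n : ℤ) ^ 2
  T_inner : ∀ i j z, j ≠ j₀ →
    B (η i j - η i j₀ - (n : ℤ) • t z + Θ) (Θ₀ - t z) = (n : ℤ) - 1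
  y_const : ∀ z z', B Θ₀ (t z) = B Θ₀ (t z')
  a_const : ∀ z z', B Θ (t z) = B Θ (t z')
  rule₀ : ∀ i j, B Θ₀ (η i j) = B Θ₀ (η i j₀) + B Θ₀ (η i₀ j) - 1
  Θ₀_one : B Θ₀ (η i₀ j₀) = 1
  rule : ∀ i j, B Θ (η i j) = B Θ (η i j₀) + B Θ (η i₀ j)
  Θ_one : B Θ (η i₀ j₀) = 0

section

variable {B : Λ →ₗ[ℤ] Λ →ₗ[ℤ] ℤ} {Rl : Λ → Prop} {I J Z : Type*} [Fintype I]
    [Fintype J] [Fintype Z] {i₀ : I} {j₀ : J} {q p n : ℕ} {η : I → J → Λ} {t : Z → Λ}
    {Θ₀ Θ : Λ}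

theorem CoreData.η_self (h : CoreData B Rl i₀ j₀ q p n η t Θ₀ Θ) (i : I) (j : J) :
    B (η i j) (η i j) = 1 := h.ηON.1 (i, j)

theorem CoreData.η_ne (h : CoreData B Rl i₀ j₀ q p n η t Θ₀ Θ) {i i' : I} {j j' : J}
    (hne : i ≠ i' ∨ j ≠ j') : B (η i j) (η i' j') = 0 := by
  refine h.ηON.2 (i, j) (i', j') ?_
  intro e
  rw [Prod.mk.injEq] at e
  rcases hne with h1 | h1
  · exact h1 e.1
  · exact h1 e.2

theorem CoreData.ηt (h : CoreData B Rl i₀ j₀ q p n η t Θ₀ Θ) (i : I) (j : J) (z : Z) :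
    B (η i j) (t z) = 0 := by rw [h.hB.symm]; exact h.tη z i j

theorem CoreData.nonemptyZ (h : CoreData B Rl i₀ j₀ q p n η t Θ₀ Θ) : Nonempty Z := by
  rw [← Fintype.card_pos_iff, h.cardZ]
  have := h.n2
  omega

theorem CoreData.norm₀ (h : CoreData B Rl i₀ j₀ q p n η t Θ₀ Θ) (z : Z) :
    B Θ₀ Θ₀ = q + 2 * B Θ₀ (t z) := by
  have h1 := h.T₀_norm z
  simp only [map_sub, LinearMap.sub_apply] at h1
  rw [h.tON.1 z, h.hB.symm (t z) Θ₀] at h1
  linarith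

theorem CoreData.norm (h : CoreData B Rl i₀ j₀ q p n η t Θ₀ Θ) (z : Z) {j : J} (hj : j ≠ j₀) :
    B Θ Θ = 2 * n * B Θ (t z) - 2 * B Θ (η i₀ j) := by
  have h1 := h.Tα_norm i₀ j z hj
  simp only [map_sub, map_add, map_zsmul, LinearMap.sub_apply, LinearMap.add_apply,
    LinearMap.smul_apply, smul_eq_mul] at h1
  rw [h.tON.1 z, h.η_self, h.η_self, h.η_ne (i := i₀) (i' := i₀) (j := j) (j' := j₀) (Or.inr hj),
    h.η_ne (i := i₀) (i' := i₀) (j := j₀) (j' := j) (Or.inr (Ne.symm hj)), h.ηt, h.ηt, h.tη, h.tη,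
    h.hB.symm (t z) Θ, h.hB.symm (η i₀ j) Θ, h.hB.symm (η i₀ j₀) Θ, h.Θ_one] at h1
  linarith

theorem CoreData.inner (h : CoreData B Rl i₀ j₀ q p n η t Θ₀ Θ) (z : Z) {j : J} (hj : j ≠ j₀) :
    B Θ Θ₀ = n * B Θ₀ (t z) + B Θ (t z) - B Θ₀ (η i₀ j) := by
  have h1 := h.T_inner i₀ j z hj
  simp only [map_sub, map_add, map_zsmul, LinearMap.sub_apply, LinearMap.add_apply,
    LinearMap.smul_apply, smul_eq_mul] at h1
  rw [h.tON.1 z, h.ηt, h.ηt, h.hB.symm (t z) Θ₀, h.hB.symm (η i₀ j) Θ₀,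
    h.hB.symm (η i₀ j₀) Θ₀, h.Θ₀_one] at h1
  linarith

theorem CoreData.card_ne (h : CoreData B Rl i₀ j₀ q p n η t Θ₀ Θ) :
    ∃ j : J, j ≠ j₀ := by
  classical
  by_contra hcon
  push Not at hcon
  have : Fintype.card J ≤ 1 := Fintype.card_le_one_iff.mpr fun a b => by rw [hcon a, hcon b]
  have h3 := h.p3
  rw [h.cardJ] at this
  omega

/-- The coefficient of `Θ` on `η i₀ j` is the same for all `j ≠ j₀`. -/
theorem CoreData.c_const (h : CoreData B Rl i₀ j₀ q p n η t Θ₀ Θ) {j j' : J} (hj : j ≠ j₀)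
    (hj' : j' ≠ j₀) : B Θ (η i₀ j) = B Θ (η i₀ j') := by
  obtain ⟨z⟩ := h.nonemptyZ
  have h1 := h.norm z hj
  have h2 := h.norm z hj'
  linarith

/-- The coefficient of `Θ₀` on `η i₀ j` is the same for all `j ≠ j₀`. -/
theorem CoreData.b_const (h : CoreData B Rl i₀ j₀ q p n η t Θ₀ Θ) {j j' : J} (hj : j ≠ j₀)
    (hj' : j' ≠ j₀) : B Θ₀ (η i₀ j) = B Θ₀ (η i₀ j') := by
  obtain ⟨z⟩ := h.nonemptyZ
  have h1 := h.inner z hj
  have h2 := h.inner z hj'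
  linarith

/-- Summing over `J`: the term `j₀` and `p - 1` equal terms. -/
theorem CoreData.sumJ (h : CoreData B Rl i₀ j₀ q p n η t Θ₀ Θ) (f : J → ℤ) {j₁ : J}
    (hf : ∀ j, j ≠ j₀ → f j = f j₁) : ∑ j, f j = f j₀ + (p - 1) * f j₁ := by
  classical
  rw [← Finset.add_sum_erase Finset.univ f (Finset.mem_univ j₀)]
  congr 1
  rw [Finset.sum_congr rfl (g := fun _ => f j₁)
    (fun j hj => hf j (Finset.ne_of_mem_erase hj)), Finset.sum_const,
    Finset.card_erase_of_mem (Finset.mem_univ j₀), Finset.card_univ, h.cardJ, nsmul_eq_mul]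
  have := h.p3
  push_cast [Nat.cast_sub (show 1 ≤ p by omega)]
  ring

theorem CoreData.tη' (h : CoreData B Rl i₀ j₀ q p n η t Θ₀ Θ) (z : Z) (x : I × J) :
    B (t z) (η x.1 x.2) = 0 := h.tη z x.1 x.2

theorem CoreData.sumZ (h : CoreData B Rl i₀ j₀ q p n η t Θ₀ Θ) (f : Z → ℤ) (z : Z)
    (hf : ∀ z', f z' = f z) : ∑ z', f z' = n * f z := by
  rw [Finset.sum_congr rfl (g := fun _ => f z) (fun z' _ => hf z'), Finset.sum_const,
    Finset.card_univ, h.cardZ, nsmul_eq_mul]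

/-- The Bessel sum for `Θ`. -/
theorem CoreData.sumΘ (h : CoreData B Rl i₀ j₀ q p n η t Θ₀ Θ) (z : Z) {j₁ : J}
    (hj₁ : j₁ ≠ j₀) : ∑ z, (B Θ (t z)) ^ 2 + ∑ x : I × J, (B Θ (η x.1 x.2)) ^ 2 =
      (n : ℤ) * (B Θ (t z)) ^ 2 +
      ∑ i, ((B Θ (η i j₀)) ^ 2 + (p - 1) * (B Θ (η i j₀) + B Θ (η i₀ j₁)) ^ 2) := by
  rw [h.sumZ (fun z => (B Θ (t z)) ^ 2) z (fun z' => by simp only [h.a_const z' z]),
    Fintype.sum_prod_type]
  congr 1
  refine Finset.sum_congr rfl fun i _ => ?_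
  rw [h.sumJ (fun j => (B Θ (η (i, j).1 (i, j).2)) ^ 2) (j₁ := j₁)]
  · simp only
    rw [h.rule i j₁]
  · intro j hj
    simp only
    rw [h.rule i j, h.rule i j₁, h.c_const hj hj₁]

theorem CoreData.besselΘ (h : CoreData B Rl i₀ j₀ q p n η t Θ₀ Θ) (z : Z) {j₁ : J}
    (hj₁ : j₁ ≠ j₀) : (n : ℤ) * (B Θ (t z)) ^ 2 +
      ∑ i, ((B Θ (η i j₀)) ^ 2 + (p - 1) * (B Θ (η i j₀) + B Θ (η i₀ j₁)) ^ 2) ≤
      2 * n * B Θ (t z) - 2 * B Θ (η i₀ j₁) := by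
  have h1 := bessel_two h.hB h.tON h.ηON h.tη' Θ
  rw [h.sumΘ z hj₁, h.norm z hj₁] at h1
  exact h1

/-- The Bessel sum for `Θ₀`. -/
theorem CoreData.sumΘ₀ (h : CoreData B Rl i₀ j₀ q p n η t Θ₀ Θ) (z : Z) {j₁ : J}
    (hj₁ : j₁ ≠ j₀) : ∑ z, (B Θ₀ (t z)) ^ 2 + ∑ x : I × J, (B Θ₀ (η x.1 x.2)) ^ 2 =
      (n : ℤ) * (B Θ₀ (t z)) ^ 2 +
      ∑ i, ((B Θ₀ (η i j₀)) ^ 2 + (p - 1) * (B Θ₀ (η i j₀) + B Θ₀ (η i₀ j₁) - 1) ^ 2) := by
  rw [h.sumZ (fun z => (B Θ₀ (t z)) ^ 2) z (fun z' => by simp only [h.y_const z' z]),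
    Fintype.sum_prod_type]
  congr 1
  refine Finset.sum_congr rfl fun i _ => ?_
  rw [h.sumJ (fun j => (B Θ₀ (η (i, j).1 (i, j).2)) ^ 2) (j₁ := j₁)]
  · simp only
    rw [h.rule₀ i j₁]
  · intro j hj
    simp only
    rw [h.rule₀ i j, h.rule₀ i j₁, h.b_const hj hj₁]

theorem CoreData.besselΘ₀ (h : CoreData B Rl i₀ j₀ q p n η t Θ₀ Θ) (z : Z) {j₁ : J}
    (hj₁ : j₁ ≠ j₀) : (n : ℤ) * (B Θ₀ (t z)) ^ 2 +
      ∑ i, ((B Θ₀ (η i j₀)) ^ 2 + (p - 1) * (B Θ₀ (η i j₀) + B Θ₀ (η i₀ j₁) - 1) ^ 2) ≤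
      q + 2 * B Θ₀ (t z) := by
  have h1 := bessel_two h.hB h.tON h.ηON h.tη' Θ₀
  rw [h.sumΘ₀ z hj₁, h.norm₀ z] at h1
  exact h1

theorem CoreData.term_i₀ (h : CoreData B Rl i₀ j₀ q p n η t Θ₀ Θ) {j₁ : J} :
    (p - 1 : ℤ) * (B Θ (η i₀ j₁)) ^ 2 ≤
      ∑ i, ((B Θ (η i j₀)) ^ 2 + (p - 1) * (B Θ (η i j₀) + B Θ (η i₀ j₁)) ^ 2) := by
  have hp : (3 : ℤ) ≤ p := by exact_mod_cast h.p3
  have h1 := Finset.single_le_sum (s := Finset.univ)
    (f := fun i => (B Θ (η i j₀)) ^ 2 + (p - 1) * (B Θ (η i j₀) + B Θ (η i₀ j₁)) ^ 2)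
    (fun i _ => by
      have := sq_nonneg (B Θ (η i j₀))
      have h2 := mul_nonneg (show (0 : ℤ) ≤ p - 1 by linarith)
        (sq_nonneg (B Θ (η i j₀) + B Θ (η i₀ j₁)))
      linarith) (Finset.mem_univ i₀)
  simp only [h.Θ_one] at h1
  simpa using h1

/-- `a' ∈ {0, 1, 2}`. -/
theorem CoreData.a_range (h : CoreData B Rl i₀ j₀ q p n η t Θ₀ Θ) (z : Z) :
    0 ≤ B Θ (t z) ∧ B Θ (t z) ≤ 2 := by
  obtain ⟨j₁, hj₁⟩ := h.card_ne
  have h1 := h.besselΘ z hj₁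
  have h2 := h.term_i₀ (j₁ := j₁)
  have hp : (3 : ℤ) ≤ p := by exact_mod_cast h.p3
  have hn : (2 : ℤ) ≤ n := by exact_mod_cast h.n2
  set a := B Θ (t z)
  set c := B Θ (η i₀ j₁)
  have h3 : (2 : ℤ) * c ^ 2 ≤ (p - 1) * c ^ 2 :=
    mul_le_mul_of_nonneg_right (by linarith) (sq_nonneg c)
  have h4 : 0 ≤ c ^ 2 + c := by
    rcases le_or_gt 0 c with hc | hc
    · positivity
    · nlinarith
  have h5 : (n : ℤ) * (a * (a - 2)) ≤ 0 := by nlinarith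
  have h6 : a * (a - 2) ≤ 0 := by
    by_contra hcon
    push Not at hcon
    have : 0 < (n : ℤ) * (a * (a - 2)) := mul_pos (by linarith) hcon
    linarith
  constructor
  · by_contra hcon
    push Not at hcon
    nlinarith
  · by_contra hcon
    push Not at hcon
    nlinarith

/-- If `∑_kl c_kl² ≤ -2c` then everything vanishes. -/
theorem CoreData.c_zero (h : CoreData B Rl i₀ j₀ q p n η t Θ₀ Θ) {j₁ : J}
    (hle : ∑ i, ((B Θ (η i j₀)) ^ 2 + (p - 1) * (B Θ (η i j₀) + B Θ (η i₀ j₁)) ^ 2) ≤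
      - 2 * B Θ (η i₀ j₁)) :
    B Θ (η i₀ j₁) = 0 ∧ ∀ i, B Θ (η i j₀) = 0 := by
  classical
  have hp : (3 : ℤ) ≤ p := by exact_mod_cast h.p3
  set c := B Θ (η i₀ j₁) with hc
  have hnn : ∀ i, 0 ≤ (B Θ (η i j₀)) ^ 2 + (p - 1) * (B Θ (η i j₀) + c) ^ 2 := by
    intro i
    have h1 := sq_nonneg (B Θ (η i j₀))
    have h2 := mul_nonneg (show (0 : ℤ) ≤ p - 1 by linarith) (sq_nonneg (B Θ (η i j₀) + c))
    linarith
  have hc0 : c = 0 := by
    by_contra hne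
    -- another index
    have hex : ∃ i : I, i ≠ i₀ := by
      by_contra hcon
      push Not at hcon
      have h2 : Fintype.card I ≤ 1 := Fintype.card_le_one_iff.mpr fun a b => by
        rw [hcon a, hcon b]
      have h3 := h.q3
      rw [h.cardI] at h2
      omega
    obtain ⟨i₁, hi₁⟩ := hex
    have h1 : ((B Θ (η i₀ j₀)) ^ 2 + (p - 1) * (B Θ (η i₀ j₀) + c) ^ 2) +
        ((B Θ (η i₁ j₀)) ^ 2 + (p - 1) * (B Θ (η i₁ j₀) + c) ^ 2) ≤
        ∑ i, ((B Θ (η i j₀)) ^ 2 + (p - 1) * (B Θ (η i j₀) + c) ^ 2) := by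
      rw [← Finset.sum_pair (f := fun i => (B Θ (η i j₀)) ^ 2 + (p - 1) * (B Θ (η i j₀) + c) ^ 2)
        (Ne.symm hi₁)]
      exact Finset.sum_le_sum_of_subset_of_nonneg (Finset.subset_univ _) (fun i _ _ => hnn i)
    rw [h.Θ_one] at h1
    set r := B Θ (η i₁ j₀)
    have h2 : (p - 1) * c ^ 2 + (r ^ 2 + (p - 1) * (r + c) ^ 2) ≤ -2 * c := by
      have : (0 : ℤ) ^ 2 + (p - 1) * (0 + c) ^ 2 = (p - 1) * c ^ 2 := by ring
      linarith
    have h3 : (2 : ℤ) * c ^ 2 ≤ (p - 1) * c ^ 2 :=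
      mul_le_mul_of_nonneg_right (by linarith) (sq_nonneg c)
    have h4 : (2 : ℤ) * (r + c) ^ 2 ≤ (p - 1) * (r + c) ^ 2 :=
      mul_le_mul_of_nonneg_right (by linarith) (sq_nonneg (r + c))
    have h5 : 2 * c ^ 2 + (r ^ 2 + 2 * (r + c) ^ 2) ≤ -2 * c := by linarith
    have hcneg : c < 0 := by
      rcases lt_trichotomy c 0 with h6 | h6 | h6
      · exact h6
      · exact absurd h6 hne
      · nlinarith [sq_nonneg r, sq_nonneg (r + c)]
    have hc1 : c = -1 := by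
      have : -1 ≤ c := by
        by_contra hcon
        push Not at hcon
        nlinarith [sq_nonneg r, sq_nonneg (r + c)]
      omega
    rw [hc1] at h5
    have h6 : r ^ 2 + 2 * (r + -1) ^ 2 ≤ 0 := by linarith
    have h7 : r = 0 := by nlinarith [sq_nonneg r, sq_nonneg (r + -1)]
    rw [h7] at h6
    norm_num at h6
  refine ⟨hc0, ?_⟩
  rw [hc0] at hle
  have hz : ∑ i, ((B Θ (η i j₀)) ^ 2 + (p - 1) * (B Θ (η i j₀) + 0) ^ 2) = 0 := by
    refine le_antisymm (by linarith) (Finset.sum_nonneg fun i _ => ?_)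
    have := hnn i
    rwa [hc0] at this
  intro i
  have h8 := (Finset.sum_eq_zero_iff_of_nonneg (fun i _ => by
    have := hnn i
    rwa [hc0] at this)).mp hz i (Finset.mem_univ i)
  have h9 : (B Θ (η i j₀)) ^ 2 + (p - 1) * (B Θ (η i j₀)) ^ 2 = 0 := by simpa using h8
  have h10 : (p : ℤ) * (B Θ (η i j₀)) ^ 2 = 0 := by linarith
  rcases mul_eq_zero.mp h10 with h11 | h11
  · linarith
  · exact pow_eq_zero_iff (two_ne_zero) |>.mp h11

theorem CoreData.y_cases (h : CoreData B Rl i₀ j₀ q p n η t Θ₀ Θ) {y : ℤ} (hy : (n : ℤ) * y ^ 2 ≤ 2 * y) :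
    y = 0 ∨ (y = 1 ∧ n = 2) := by
  have hn : (2 : ℤ) ≤ n := by exact_mod_cast h.n2
  have h0 : 0 ≤ y := by nlinarith [sq_nonneg y]
  rcases eq_or_lt_of_le h0 with h1 | h1
  · exact Or.inl h1.symm
  · right
    have h2 : (n : ℤ) * y ≤ 2 := by
      by_contra hcon
      push Not at hcon
      nlinarith
    have h3 : y = 1 := by nlinarith
    subst h3
    refine ⟨rfl, ?_⟩
    have : (n : ℤ) = 2 := by linarith
    exact_mod_cast this

/-- **The computation of Peterfalvi (11.8)**: in the column case both `Θ₀` and `Θ` are as in a coherent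
situation. -/
theorem CoreData.column (h : CoreData B Rl i₀ j₀ q p n η t Θ₀ Θ)
    (hcol : ∀ i, B Θ₀ (η i j₀) = 1) (hcol' : ∀ i j, j ≠ j₀ → B Θ₀ (η i j) = 0) :
    ∃ y : ℤ, (y = 0 ∨ (y = 1 ∧ n = 2)) ∧ Θ₀ = ∑ i, η i j₀ + y • ∑ z, t z ∧
      Θ = ((n : ℤ) * y) • ∑ z, t z := by
  classical
  obtain ⟨z⟩ := h.nonemptyZ
  obtain ⟨j₁, hj₁⟩ := h.card_ne
  have hn : (2 : ℤ) ≤ n := by exact_mod_cast h.n2
  have hs₀ : ∑ i, ((B Θ₀ (η i j₀)) ^ 2 + (p - 1) * (B Θ₀ (η i j₀) + B Θ₀ (η i₀ j₁) - 1) ^ 2)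
      = (q : ℤ) := by
    rw [Finset.sum_congr rfl (g := fun _ => (1 : ℤ))]
    · simp [h.cardI]
    · intro i _
      rw [hcol i, hcol' i₀ j₁ hj₁]
      ring
  have hb := h.besselΘ₀ z hj₁
  rw [hs₀] at hb
  have hy : (n : ℤ) * (B Θ₀ (t z)) ^ 2 ≤ 2 * B Θ₀ (t z) := by linarith
  have hyc := h.y_cases hy
  have hΘ₀ : Θ₀ = ∑ i, η i j₀ + (B Θ₀ (t z)) • ∑ z, t z := by
    have h1 := bessel_two_eq h.hB h.tON h.ηON h.tη' Θ₀ (by
      rw [h.sumΘ₀ z hj₁, hs₀, h.norm₀ z]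
      rcases hyc with h2 | ⟨h2, h3⟩
      · rw [h2]; ring_nf; exact le_refl _
      · rw [h2, h3]; push_cast; ring_nf; exact le_refl _)
    conv_lhs => rw [h1]
    rw [add_comm, Fintype.sum_prod_type]
    congr 1
    · refine Finset.sum_congr rfl fun i _ => ?_
      rw [Finset.sum_eq_single j₀]
      · simp only [hcol i, one_smul]
      · intro j _ hj
        simp only [hcol' i j hj, zero_smul]
      · intro h2; exact absurd (Finset.mem_univ _) h2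
    · rw [Finset.smul_sum]
      refine Finset.sum_congr rfl fun z' _ => ?_
      rw [h.y_const z' z]
  set y := B Θ₀ (t z) with hydef
  set a := B Θ (t z) with hadef
  -- the inner product of Θ and Θ₀
  have hin := h.inner z hj₁
  rw [hcol' i₀ j₁ hj₁, ← hydef, ← hadef] at hin
  have hin2 : B Θ Θ₀ = ∑ i, B Θ (η i j₀) + y * (n * a) := by
    conv_lhs => rw [hΘ₀]
    rw [map_add, map_sum, map_zsmul, map_sum, h.sumZ (fun z => B Θ (t z)) z
      (fun z' => h.a_const z' z), smul_eq_mul]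
  have hpar : Even (∑ i, B Θ (η i j₀)) := by
    have h1 := h.parity _ _ h.rlΘ h.rlE
    rw [h.Θ_one, zero_mul, sub_zero, map_sum] at h1
    exact h1
  have hne : Even (n : ℤ) := by exact_mod_cast h.n_even
  have hS : ∑ i, B Θ (η i j₀) = n * y + a - y * (n * a) := by linarith
  have ha_even : Even a := by
    have h1 : a = ∑ i, B Θ (η i j₀) - n * y + y * (n * a) := by linarith
    rw [h1]
    refine Even.add (Even.sub hpar (hne.mul_right y)) ?_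
    rw [mul_comm y, mul_assoc]
    exact hne.mul_right _
  obtain ⟨ha0, ha2⟩ := h.a_range z
  rw [← hadef] at ha0 ha2
  have ha : a = 0 ∨ a = 2 := by
    obtain ⟨k, hk⟩ := ha_even
    omega
  have hbΘ := h.besselΘ z hj₁
  rw [← hadef] at hbΘ
  have hle : ∑ i, ((B Θ (η i j₀)) ^ 2 + (p - 1) * (B Θ (η i j₀) + B Θ (η i₀ j₁)) ^ 2) ≤
      - 2 * B Θ (η i₀ j₁) := by
    have h1 : (n : ℤ) * a ^ 2 = 2 * n * a := by
      rcases ha with h2 | h2 <;> rw [h2] <;> ring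
    linarith
  obtain ⟨hc, hci⟩ := h.c_zero hle
  have hS0 : ∑ i, B Θ (η i j₀) = 0 := Finset.sum_eq_zero fun i _ => hci i
  rw [hS0] at hS
  have hay : a = n * y := by
    rcases hyc with h2 | ⟨h2, h3⟩
    · rw [h2] at hS ⊢; linarith
    · rw [h2, h3] at hS ⊢; push_cast at hS ⊢; linarith
  refine ⟨y, hyc, hΘ₀, ?_⟩
  have hcij : ∀ i j, B Θ (η i j) = 0 := by
    intro i j
    rw [h.rule i j, hci i, zero_add]
    by_cases hj : j = j₀
    · rw [hj]; exact h.Θ_one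
    · rw [h.c_const hj hj₁, hc]
  have h1 := bessel_two_eq h.hB h.tON h.ηON h.tη' Θ (by
    rw [h.sumΘ z hj₁, h.norm z hj₁, hc, ← hadef, Finset.sum_eq_zero]
    · rcases ha with h2 | h2
      · rw [h2]; ring_nf; exact le_refl _
      · rw [h2]; ring_nf; exact le_refl _
    · intro i _
      rw [hci i]
      ring)
  conv_lhs => rw [h1]
  rw [Finset.sum_eq_zero (s := (Finset.univ : Finset (I × J))), add_zero, Finset.smul_sum]
  · refine Finset.sum_congr rfl fun z' _ => ?_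
    rw [h.a_const z' z, ← hadef, hay]
  · intro x _
    rw [hcij, zero_smul]

/-- **The computation of Peterfalvi (11.9)(a), first part**: either the column case, or all rows of the
coefficient matrix of `Θ₀` are constant. -/
theorem CoreData.row_of_not_column (h : CoreData B Rl i₀ j₀ q p n η t Θ₀ Θ)
    (hcol : ¬ ((∀ i, B Θ₀ (η i j₀) = 1) ∧ ∀ i j, j ≠ j₀ → B Θ₀ (η i j) = 0)) :
    (∀ i j, B Θ₀ (η i j) = B Θ₀ (η i j₀)) ∧ (p : ℤ) * ∑ i, (B Θ₀ (η i j₀)) ^ 2 ≤ q := by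
  classical
  obtain ⟨z⟩ := h.nonemptyZ
  obtain ⟨j₁, hj₁⟩ := h.card_ne
  have hn : (2 : ℤ) ≤ n := by exact_mod_cast h.n2
  have hp : (3 : ℤ) ≤ p := by exact_mod_cast h.p3
  have hb := h.besselΘ₀ z hj₁
  set y := B Θ₀ (t z) with hydef
  set b := B Θ₀ (η i₀ j₁) with hbdef
  have hy0 : 0 ≤ (n : ℤ) * y ^ 2 - 2 * y := by
    have h1 : (2 : ℤ) * y ^ 2 ≤ n * y ^ 2 := mul_le_mul_of_nonneg_right hn (sq_nonneg y)
    have h2 : 0 ≤ y ^ 2 - y := by
      rcases le_or_gt y 0 with h3 | h3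
      · nlinarith [sq_nonneg y]
      · nlinarith
    linarith
  have hs : ∑ i, ((B Θ₀ (η i j₀)) ^ 2 + (p - 1) * (B Θ₀ (η i j₀) + b - 1) ^ 2) ≤ (q : ℤ) := by
    linarith
  by_cases hb1 : b = 1
  · have hbj : ∀ j, B Θ₀ (η i₀ j) = 1 := by
      intro j
      by_cases hj : j = j₀
      · rw [hj]; exact h.Θ₀_one
      · rw [h.b_const hj hj₁]; exact hb1
    refine ⟨fun i j => by rw [h.rule₀ i j, hbj j]; ring, ?_⟩
    rw [Finset.mul_sum]
    refine le_trans (le_of_eq ?_) hs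
    refine Finset.sum_congr rfl fun i _ => ?_
    rw [hb1]; ring
  · exfalso
    apply hcol
    have hge : ∀ i, 1 ≤ (B Θ₀ (η i j₀)) ^ 2 + (p - 1) * (B Θ₀ (η i j₀) + b - 1) ^ 2 := by
      intro i
      set r := B Θ₀ (η i j₀)
      have h2 : 0 ≤ (p - 1) * (r + b - 1) ^ 2 :=
        mul_nonneg (by linarith) (sq_nonneg _)
      by_cases hr : r = 0
      · rw [hr]
        have h3 : 1 ≤ (0 + b - 1) ^ 2 := by
          have h4 : (0 + b - 1) ≠ 0 := by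
            intro h5; apply hb1; linarith
          have := sq_nonneg (0 + b - 1)
          have h6 : (0 + b - 1) ^ 2 ≠ 0 := pow_ne_zero 2 h4
          omega
        have h7 : (2 : ℤ) * (0 + b - 1) ^ 2 ≤ (p - 1) * (0 + b - 1) ^ 2 :=
          mul_le_mul_of_nonneg_right (by linarith) (sq_nonneg _)
        linarith
      · have h3 : 1 ≤ r ^ 2 := by
          have := sq_nonneg r
          have h6 : r ^ 2 ≠ 0 := pow_ne_zero 2 hr
          omega
        linarith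
    have hall : ∀ i, (B Θ₀ (η i j₀)) ^ 2 + (p - 1) * (B Θ₀ (η i j₀) + b - 1) ^ 2 = 1 := by
      have h1 : ∑ i, (((B Θ₀ (η i j₀)) ^ 2 + (p - 1) * (B Θ₀ (η i j₀) + b - 1) ^ 2) - 1) = 0 := by
        refine le_antisymm ?_ (Finset.sum_nonneg fun i _ => by linarith [hge i])
        rw [Finset.sum_sub_distrib]
        have : ∑ _i : I, (1 : ℤ) = q := by simp [h.cardI]
        rw [this]
        linarith
      intro i
      have h2 := (Finset.sum_eq_zero_iff_of_nonneg (fun i _ => by linarith [hge i])).mp h1 i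
        (Finset.mem_univ i)
      linarith
    have hb0 : b = 0 := by
      have h1 := hall i₀
      rw [h.Θ₀_one] at h1
      have h2 : (p - 1 : ℤ) * b ^ 2 = 0 := by
        have : (1 + b - 1 : ℤ) = b := by ring
        rw [this] at h1
        linarith
      rcases mul_eq_zero.mp h2 with h3 | h3
      · linarith
      · exact pow_eq_zero_iff (two_ne_zero) |>.mp h3
    have hr1 : ∀ i, B Θ₀ (η i j₀) = 1 := by
      intro i
      have h1 := hall i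
      rw [hb0] at h1
      set r := B Θ₀ (η i j₀)
      have h3 : (2 : ℤ) * (r + 0 - 1) ^ 2 ≤ (p - 1) * (r + 0 - 1) ^ 2 :=
        mul_le_mul_of_nonneg_right (by linarith) (sq_nonneg _)
      have h4 : r ^ 2 + 2 * (r - 1) ^ 2 ≤ 1 := by
        have : (r + 0 - 1) = r - 1 := by ring
        rw [this] at h3 h1
        linarith
      have h5 : 0 < r := by
        by_contra hcon
        push Not at hcon
        nlinarith [sq_nonneg r]
      have h6 : r < 2 := by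
        by_contra hcon
        push Not at hcon
        nlinarith [sq_nonneg (r - 1)]
      omega
    refine ⟨hr1, fun i j hj => ?_⟩
    rw [h.rule₀ i j, hr1 i, h.b_const hj hj₁, ← hbdef, hb0]
    ring

end

end Cfsg.Agent.OddOrderCharacters.PF11.Core8
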