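import Cfsg.Agent.OddOrderCharacters.PF11.Core8

/-!
# The lattice computation behind Peterfalvi (11.9)(c)

`tl - a t z + Θ₃ = τ (λ - a ζ_z)` for an irreducible `λ` of degree `a q` in `X(H₀C)`.
-/

set_option autoImplicit false

namespace Cfsg.Agent.OddOrderCharacters.PF11.Core9

open Cfsg.Agent.OddOrderCharacters.PF11.Lattice Cfsg.Agent.OddOrderCharacters.PF11.Core8

variable {Λ : Type*} [AddCommGroup Λ] {B : Λ →ₗ[ℤ] Λ →ₗ[ℤ] ℤ} {Rl : Λ → Prop} {I J Z : Type*}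
    [Fintype I] [Fintype J] [Fintype Z] {i₀ : I} {j₀ : J} {q p n : ℕ} {η : I → J → Λ} {t : Z → Λ}
    {Θ₀ Θ : Λ}

theorem nonGalois (h : CoreData B Rl i₀ j₀ q p n η t Θ₀ Θ)
    (hrow : ∀ j, B Θ₀ (η i₀ j) = 1) (hq : q.Prime) (hpq : p ≤ q) {a c : ℕ}
    (hca : c * a = q * n + 1) (ha0 : 0 < a) (ha : 2 * a ≤ p - 1) (tl tl' : Λ)
    (h1 : B tl tl = 1) (h1' : B tl' tl' = 1) (h11' : B tl tl' = 0)
    (htl : ∀ z, B tl (t z) = 0) (htl' : ∀ z, B tl' (t z) = 0)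
    (hη : ∀ i j, B tl (η i j) = 0) (hη' : ∀ i j, B tl' (η i j) = 0) (Θ₃ : Λ)
    (hnorm : ∀ z, B (tl - (a : ℤ) • t z + Θ₃) (tl - (a : ℤ) • t z + Θ₃) = 1 + (a : ℤ) ^ 2)
    (hx : ∀ z z', B Θ₃ (t z) = B Θ₃ (t z')) (hz : B Θ₃ tl = B Θ₃ tl')
    (hrel : (c : ℤ) • Θ₃ = (q : ℤ) • Θ + Θ₀ - ∑ i, η i j₀) : False := by
  classical
  obtain ⟨z⟩ := h.nonemptyZ
  obtain ⟨j₁, hj₁⟩ := h.card_ne
  have hn : (2 : ℤ) ≤ n := by exact_mod_cast h.n2
  have hp : (3 : ℤ) ≤ p := by exact_mod_cast h.p3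
  have hB := h.hB
  -- relation on the coefficients
  have hrel2 : ∀ j, j ≠ j₀ → (c : ℤ) * B Θ₃ (η i₀ j) = q * B Θ (η i₀ j₁) + 1 := by
    intro j hj
    have e1 := congrArg (fun v => B v (η i₀ j)) hrel
    simp only [map_zsmul, map_add, map_sub, LinearMap.smul_apply, LinearMap.add_apply,
      LinearMap.sub_apply, smul_eq_mul, map_sum, LinearMap.sum_apply] at e1
    rw [hrow j, Finset.sum_eq_zero (fun i _ => h.η_ne (Or.inr (Ne.symm hj))),
      h.c_const hj hj₁] at e1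
    linarith
  have hc0 : 0 < c := by
    rcases Nat.eq_zero_or_pos c with h0 | h0
    · rw [h0] at hca; omega
    · exact h0
  have hcZ : (c : ℤ) ≠ 0 := by exact_mod_cast hc0.ne'
  set e := B Θ₃ (η i₀ j₁) with he
  have hej : ∀ j, j ≠ j₀ → B Θ₃ (η i₀ j) = e := by
    intro j hj
    have e1 := hrel2 j hj
    have e2 := hrel2 j₁ hj₁
    exact mul_left_cancel₀ hcZ (by rw [e1, e2])
  -- the norm of Θ₃
  have hN : B Θ₃ Θ₃ = 2 * a * B Θ₃ (t z) - 2 * B Θ₃ tl := by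
    have e1 := hnorm z
    simp only [map_sub, map_add, map_zsmul, LinearMap.sub_apply, LinearMap.add_apply,
      LinearMap.smul_apply, smul_eq_mul] at e1
    rw [h1, h.tON.1 z, htl z, hB.symm (t z) tl, htl z, hB.symm tl Θ₃, hB.symm (t z) Θ₃] at e1
    linarith
  -- Bessel
  have hON : IsON B (Sum.elim t (fun b : Bool => if b then tl else tl')) := by
    refine IsON.sum hB h.tON ⟨?_, ?_⟩ ?_
    · intro b; cases b <;> simp [h1, h1']
    · intro b b' hbb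
      cases b <;> cases b'
      · exact absurd rfl hbb
      · simpa using (hB.symm tl' tl).trans h11'
      · simpa using h11'
      · exact absurd rfl hbb
    · intro z' b
      cases b
      · simp [hB.symm (t z') tl', htl' z']
      · simp [hB.symm (t z') tl, htl z']
  have hbes := bessel_two hB hON h.ηON (by
    rintro (z' | b) x
    · exact h.tη z' x.1 x.2
    · cases b
      · simpa using hη' x.1 x.2
      · simpa using hη x.1 x.2) Θ₃
  rw [Fintype.sum_sum_type] at hbes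
  simp only [Sum.elim_inl, Sum.elim_inr, Fintype.sum_bool, if_true, Bool.false_eq_true,
    if_false] at hbes
  rw [h.sumZ (fun z => (B Θ₃ (t z)) ^ 2) z (fun z' => by simp only [hx z' z]), ← hz, hN,
    Fintype.sum_prod_type] at hbes
  have hrowsum : (p - 1 : ℤ) * e ^ 2 ≤ ∑ i, ∑ j, (B Θ₃ (η i j)) ^ 2 := by
    have e1 : ∑ j, (B Θ₃ (η i₀ j)) ^ 2 ≤ ∑ i, ∑ j, (B Θ₃ (η i j)) ^ 2 :=
      Finset.single_le_sum (f := fun i => ∑ j, (B Θ₃ (η i j)) ^ 2)
        (fun i _ => Finset.sum_nonneg fun j _ => sq_nonneg _) (Finset.mem_univ i₀)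
    have e2 := h.sumJ (fun j => (B Θ₃ (η i₀ j)) ^ 2) (j₁ := j₁) (fun j hj => by
      simp only [hej j hj, ← he])
    rw [e2, ← he] at e1
    have := sq_nonneg (B Θ₃ (η i₀ j₀))
    linarith
  set x := B Θ₃ (t z)
  set z0 := B Θ₃ tl
  have k1 : (p - 1 : ℤ) * e ^ 2 ≤ 2 * a * x - 2 * x ^ 2 := by
    have e1 : (2 : ℤ) * x ^ 2 ≤ n * x ^ 2 := mul_le_mul_of_nonneg_right hn (sq_nonneg x)
    have e2 : 0 ≤ z0 ^ 2 + z0 := by
      rcases le_or_gt 0 z0 with hc | hc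
      · positivity
      · nlinarith
    linarith
  have k2 : 2 * ((p - 1 : ℤ) * e ^ 2) ≤ (a : ℤ) ^ 2 := by nlinarith [sq_nonneg ((a : ℤ) - 2 * x)]
  have haZ : (2 : ℤ) * a ≤ p - 1 := by
    have h3 := h.p3
    have : 2 * a + 1 ≤ p := by omega
    have : (2 * a + 1 : ℤ) ≤ p := by exact_mod_cast this
    linarith
  have ha0Z : (0 : ℤ) < a := by exact_mod_cast ha0
  have k3 : (4 : ℤ) * e ^ 2 ≤ a := by
    have e1 : (2 * a : ℤ) * e ^ 2 ≤ (p - 1) * e ^ 2 :=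
      mul_le_mul_of_nonneg_right haZ (sq_nonneg e)
    have e2 : (a : ℤ) * (4 * e ^ 2) ≤ a * a := by nlinarith
    exact le_of_mul_le_mul_left e2 ha0Z
  have k4 : -(a : ℤ) < e ∧ e < a := by
    constructor
    · by_contra hcon
      push Not at hcon
      nlinarith
    · by_contra hcon
      push Not at hcon
      nlinarith
  -- divisibility
  have hcaZ : (c : ℤ) * a = q * n + 1 := by exact_mod_cast hca
  have hdvd : (q : ℤ) ∣ (c : ℤ) * (a - e) := by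
    refine ⟨n - B Θ (η i₀ j₁), ?_⟩
    have e2 := hrel2 j₁ hj₁
    rw [← he] at e2
    linarith [mul_sub (c : ℤ) a e]
  have hqZ : Prime (q : ℤ) := Nat.prime_iff_prime_int.mp hq
  have hqc : ¬ (q : ℤ) ∣ c := by
    rintro ⟨k, hk⟩
    have e1 : (q : ℤ) ∣ 1 := by
      refine ⟨k * a - n, ?_⟩
      have : (q : ℤ) * k * a = q * n + 1 := by rw [← hk]; exact hcaZ
      linarith [mul_sub (q : ℤ) (k * a) n, mul_assoc (q : ℤ) k a]
    exact hqZ.not_isUnit (isUnit_of_dvd_one e1)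
  rcases hqZ.dvd_or_dvd hdvd with hd | hd
  · exact hqc hd
  · have e1 := Int.le_of_dvd (by linarith) hd
    have e2 : (p : ℤ) ≤ q := by exact_mod_cast hpq
    linarith

end Cfsg.Agent.OddOrderCharacters.PF11.Core9
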