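import Mathlib

/-!
# Positive definite integer forms: Bessel's inequality
-/

set_option autoImplicit false

namespace Cfsg.Agent.OddOrderCharacters.PF11.Lattice

variable {Λ : Type*} [AddCommGroup Λ]

/-- A symmetric positive definite integer valued bilinear form. -/
structure IsPosForm (B : Λ →ₗ[ℤ] Λ →ₗ[ℤ] ℤ) : Prop where
  symm : ∀ x y, B x y = B y x
  pos : ∀ x, x ≠ 0 → 0 < B x x

theorem IsPosForm.nonneg {B : Λ →ₗ[ℤ] Λ →ₗ[ℤ] ℤ} (hB : IsPosForm B) (x : Λ) : 0 ≤ B x x := by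
  by_cases h : x = 0
  · subst h; simp
  · exact (hB.pos x h).le

theorem IsPosForm.eq_zero {B : Λ →ₗ[ℤ] Λ →ₗ[ℤ] ℤ} (hB : IsPosForm B) {x : Λ} (h : B x x ≤ 0) :
    x = 0 := by
  by_contra hx
  exact absurd (hB.pos x hx) (not_lt.mpr h)

/-- Orthonormal family. -/
def IsON (B : Λ →ₗ[ℤ] Λ →ₗ[ℤ] ℤ) {ι : Type*} (f : ι → Λ) : Prop :=
  (∀ i, B (f i) (f i) = 1) ∧ ∀ i j, i ≠ j → B (f i) (f j) = 0

theorem residual {B : Λ →ₗ[ℤ] Λ →ₗ[ℤ] ℤ} (hB : IsPosForm B) {ι : Type*} [Fintype ι]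
    {f : ι → Λ} (hf : IsON B f) (x : Λ) :
    B (x - ∑ i, B x (f i) • f i) (x - ∑ i, B x (f i) • f i) = B x x - ∑ i, (B x (f i)) ^ 2 := by
  classical
  have h1 : B x (∑ i, B x (f i) • f i) = ∑ i, (B x (f i)) ^ 2 := by
    rw [map_sum]
    refine Finset.sum_congr rfl fun i _ => ?_
    rw [map_zsmul, smul_eq_mul, sq]
  have h2 : ∀ j, B (∑ i, B x (f i) • f i) (f j) = B x (f j) := by
    intro j
    rw [map_sum, LinearMap.sum_apply, Finset.sum_eq_single j]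
    · rw [map_zsmul, LinearMap.smul_apply, hf.1 j, smul_eq_mul, mul_one]
    · intro i _ hij
      rw [map_zsmul, LinearMap.smul_apply, hf.2 i j hij, smul_zero]
    · intro h; exact absurd (Finset.mem_univ j) h
  have h3 : B (∑ i, B x (f i) • f i) (∑ i, B x (f i) • f i) = ∑ i, (B x (f i)) ^ 2 := by
    conv_lhs => rw [map_sum]
    refine Finset.sum_congr rfl fun i _ => ?_
    rw [map_zsmul, h2 i, smul_eq_mul, sq]
  have h4 : B (∑ i, B x (f i) • f i) x = ∑ i, (B x (f i)) ^ 2 := by rw [hB.symm, h1]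
  rw [map_sub (B (x - ∑ i, B x (f i) • f i)), map_sub B, LinearMap.sub_apply, LinearMap.sub_apply,
    h1, h3, h4]
  ring

theorem bessel {B : Λ →ₗ[ℤ] Λ →ₗ[ℤ] ℤ} (hB : IsPosForm B) {ι : Type*} [Fintype ι]
    {f : ι → Λ} (hf : IsON B f) (x : Λ) : ∑ i, (B x (f i)) ^ 2 ≤ B x x := by
  have := hB.nonneg (x - ∑ i, B x (f i) • f i)
  rw [residual hB hf] at this
  linarith

theorem bessel_eq {B : Λ →ₗ[ℤ] Λ →ₗ[ℤ] ℤ} (hB : IsPosForm B) {ι : Type*} [Fintype ι]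
    {f : ι → Λ} (hf : IsON B f) (x : Λ) (h : B x x ≤ ∑ i, (B x (f i)) ^ 2) :
    x = ∑ i, B x (f i) • f i := by
  have h0 : x - ∑ i, B x (f i) • f i = 0 := by
    apply hB.eq_zero
    rw [residual hB hf]
    linarith
  exact sub_eq_zero.mp h0

/-- Gluing two orthonormal families. -/
theorem IsON.sum {B : Λ →ₗ[ℤ] Λ →ₗ[ℤ] ℤ} (hB : IsPosForm B) {ι κ : Type*} {f : ι → Λ} {g : κ → Λ}
    (hf : IsON B f) (hg : IsON B g) (h : ∀ i j, B (f i) (g j) = 0) : IsON B (Sum.elim f g) := by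
  constructor
  · rintro (i | i)
    · exact hf.1 i
    · exact hg.1 i
  · rintro (i | i) (j | j) hij
    · exact hf.2 i j (fun e => hij (by rw [e]))
    · exact h i j
    · simp only [Sum.elim_inr, Sum.elim_inl]; rw [hB.symm]; exact h j i
    · exact hg.2 i j (fun e => hij (by rw [e]))

theorem bessel_two {B : Λ →ₗ[ℤ] Λ →ₗ[ℤ] ℤ} (hB : IsPosForm B) {ι κ : Type*} [Fintype ι]
    [Fintype κ] {f : ι → Λ} {g : κ → Λ} (hf : IsON B f) (hg : IsON B g)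
    (h : ∀ i j, B (f i) (g j) = 0) (x : Λ) :
    ∑ i, (B x (f i)) ^ 2 + ∑ j, (B x (g j)) ^ 2 ≤ B x x := by
  have := bessel hB (hf.sum hB hg h) x
  rwa [Fintype.sum_sum_type] at this

theorem bessel_two_eq {B : Λ →ₗ[ℤ] Λ →ₗ[ℤ] ℤ} (hB : IsPosForm B) {ι κ : Type*} [Fintype ι]
    [Fintype κ] {f : ι → Λ} {g : κ → Λ} (hf : IsON B f) (hg : IsON B g)
    (h : ∀ i j, B (f i) (g j) = 0) (x : Λ)
    (hx : B x x ≤ ∑ i, (B x (f i)) ^ 2 + ∑ j, (B x (g j)) ^ 2) :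
    x = ∑ i, B x (f i) • f i + ∑ j, B x (g j) • g j := by
  have := bessel_eq hB (hf.sum hB hg h) x (by rw [Fintype.sum_sum_type]; exact hx)
  rw [Fintype.sum_sum_type] at this
  exact this

end Cfsg.Agent.OddOrderCharacters.PF11.Lattice
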