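import Cfsg.Agent.OddOrderCharacters.PF11.Theta
import Cfsg.Agent.OddOrderCharacters.PF11.Core8
import Cfsg.Agent.OddOrderCharacters.PF11.VLat
import Cfsg.Agent.OddOrderCharacters.PF10.AlphaV

/-!
# Peterfalvi (11.8): the lattice data
-/

set_option autoImplicit false
set_option linter.unusedSectionVars false
set_option linter.dupNamespace false

open scoped ComplexConjugate
open Cfsg Cfsg.Agent.Characters.Core Cfsg.Agent.OddOrderCharacters.VChar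
  Cfsg.Agent.OddOrderCharacters.PFDefs Cfsg.Agent.OddOrderCharacters.ColSum
  Cfsg.Agent.OddOrderCharacters.Galois
  Cfsg.Agent.OddOrderCharacters.PF4b.TIFam Cfsg.Agent.OddOrderCharacters.PF4b.Prime
  Cfsg.Agent.OddOrderCharacters.PF10.Ctx Cfsg.Agent.OddOrderCharacters.PF11.Ctx
  Cfsg.Agent.OddOrderCharacters.PF11.Theta Cfsg.Agent.OddOrderCharacters.PF11.VLat
  Cfsg.Agent.OddOrderCharacters.PF11.Core8 Cfsg.Agent.OddOrderCharacters.PF11.Lattice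

namespace Cfsg.Agent.OddOrderCharacters.PF11.Data

universe u

section lat

variable {G : Type u} [Group G] [Fintype G]

theorem form_of {x y : ↥(VC G)} {k : ℤ} (h : classInner (x : G → ℂ) (y : G → ℂ) = (k : ℂ)) :
    form G x y = k := by
  have h1 := form_eq x y
  rw [h] at h1
  exact_mod_cast h1

theorem form_congr {x y x' y' : ↥(VC G)}
    (h : classInner (x : G → ℂ) (y : G → ℂ) = classInner (x' : G → ℂ) (y' : G → ℂ)) :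
    form G x y = form G x' y' := by
  have h1 : ((form G x y : ℤ) : ℂ) = ((form G x' y' : ℤ) : ℂ) := by
    rw [form_eq, form_eq, h]
  exact_mod_cast h1

end lat

theorem lin_inv_one {W : Type*} [Group W] : (1 : W →* ℂˣ)⁻¹ = 1 :=
  MonoidHom.ext fun w => by rw [MonoidHom.inv_apply, MonoidHom.one_apply, inv_one]

theorem lin_inv_ne {W : Type*} [Group W] {ψ : W →* ℂˣ} (h : ψ ≠ 1) : ψ⁻¹ ≠ 1 := by
  intro h1
  apply h
  refine MonoidHom.ext fun w => ?_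
  have h2 := DFunLike.congr_fun h1 w
  rw [MonoidHom.inv_apply, MonoidHom.one_apply, inv_eq_one] at h2
  rw [h2, MonoidHom.one_apply]

variable {G : Type u} [Group G] [Fintype G] {L K W W₁ W₂ : Subgroup G} [Fintype ↥L]
  {A A₀ : Set G} {R : G → Subgroup G}
  {μ : (↥W →* ℂˣ) → (↥L → ℂ)} {δ : (↥W →* ℂˣ) → ℤ} {η : (↥W →* ℂˣ) → (G → ℂ)}
  {p q n u : ℕ} {S₁ S₂ : Set (↥L → ℂ)} {t : (↥L → ℂ) → (G → ℂ)}

section basic

variable (c : Ctx L K W W₁ W₂ A A₀ R μ δ η p q n u S₁ S₂ t)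
include c

theorem colSum_one_on (x : ↥L) (hx : (x : G) ∈ K) : colSum W W₂ μ 1 x = (q : ℂ) := by
  rw [colSum_mu_on c.hD.primeTI c.hμ 1 x hx, c.hμ.map_one, c.card_W₁, mul_one]

theorem zeta_off {ζ : ↥L → ℂ} (hζ : ζ ∈ S₁) (x : ↥L) (hx : (x : G) ∉ K) : ζ x = 0 :=
  S_off c.hD (c.S₁_sub hζ) x hx

theorem supp₀ {ζ : ↥L → ℂ} (hζ : ζ ∈ S₁) (x : ↥L) (hx : (x : G) ∉ A₀) :
    (colSum W W₂ μ 1 - ζ) x = 0 := by
  rw [Pi.sub_apply]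
  by_cases hxK : (x : G) ∈ K
  · have hx1 : x = 1 := by
      by_contra hne
      exact hx (A_subset_A₀ c.hD ((mem_A_iff c.hD).2 ⟨hxK, fun h' => hne (Subtype.ext h')⟩))
    rw [colSum_one_on c x hxK, hx1, c.S₁_deg ζ hζ, sub_self]
  · rw [colSum_mu_off c.hD.primeTI c.hμ 1 x hxK, zeta_off c hζ x hxK, sub_self]

theorem colSum_gen (ω : ↥W →* ℂˣ) : IsGeneralizedCharacter ↥L (colSum W W₂ μ ω) :=
  gen_colSum c.direct (fun ω => gen_of_irr (c.hμ.irr ω)) ω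

theorem gen₀ {ζ : ↥L → ℂ} (hζ : ζ ∈ S₁) : IsGeneralizedCharacter ↥L (colSum W W₂ μ 1 - ζ) :=
  gen_sub (colSum_gen c 1) (zeta_gen c hζ)

theorem zeta_colSum {ζ : ↥L → ℂ} (hζ : ζ ∈ S₁) (ω : ↥W →* ℂˣ) :
    classInner ζ (colSum W W₂ μ ω) = 0 :=
  inner_zeta_colSum c.hD c.hμ (c.S₁_irr ζ hζ) (c.S₁_sub hζ) ω

theorem colSum_zeta {ζ : ↥L → ℂ} (hζ : ζ ∈ S₁) (ω : ↥W →* ℂˣ) :
    classInner (colSum W W₂ μ ω) ζ = 0 :=
  inner_colSum_zeta c.hD c.hμ (c.S₁_irr ζ hζ) (c.S₁_sub hζ) ω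

theorem norm₀ {ζ : ↥L → ℂ} (hζ : ζ ∈ S₁) :
    classInner (dadeIsometry A₀ L R (colSum W W₂ μ 1 - ζ))
      (dadeIsometry A₀ L R (colSum W W₂ μ 1 - ζ)) = (q : ℂ) + 1 := by
  rw [dade_inner c.hD (gen_isClassFunction (gen₀ c hζ)) (supp₀ c hζ)
    (gen_isClassFunction (gen₀ c hζ)) (supp₀ c hζ)]
  simp only [classInner_sub_left, classInner_sub_right, zeta_colSum c hζ, colSum_zeta c hζ,
    classInner_irr_self (c.S₁_irr ζ hζ), norm_colSum c.direct (mu_orthonormal c.hμ), c.card_W₁]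
  ring

/-- `(τ (μ_0 - ζ), 1) = 1` -/
theorem one₀ {ζ : ↥L → ℂ} (hζ : ζ ∈ S₁) :
    classInner (dadeIsometry A₀ L R (colSum W W₂ μ 1 - ζ)) (fun _ => 1) = 1 := by
  rw [PF10.AlphaV.dade_inner_one c.hD.dade (gen_isClassFunction (gen₀ c hζ)) (supp₀ c hζ),
    ← c.hμ.map_one, classInner_sub_left,
    inner_zeta_mu c.hD c.hμ (c.S₁_irr ζ hζ) (c.S₁_sub hζ) 1,
    PF4b.TIFam.inner_colSum_mu c.hD.primeTI c.hμ, if_pos (fun _ _ => rfl), sub_zero]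

theorem zero_V₀ {ζ : ↥L → ℂ} (hζ : ζ ∈ S₁) {v : G} (hv : v ∈ cycTIset W W₁ W₂) :
    dadeIsometry A₀ L R (colSum W W₂ μ 1 - ζ) v = 0 := by
  obtain ⟨hvW, hv₁, hv₂⟩ := mem_cycTIset.1 hv
  have hvL : v ∈ L := W_le c.hD.primeTI hvW
  have hvK : v ∉ K := PF10.AlphaV.notMem_K c.hD hvW hv₂
  rw [dade_V c.hD (gen_isClassFunction (gen₀ c hζ)) ⟨v, hvW⟩ hv₁ hv₂ hvL, Pi.sub_apply,
    colSum_mu_off c.hD.primeTI c.hμ 1 ⟨v, hvL⟩ hvK, zeta_off c hζ ⟨v, hvL⟩ hvK, sub_self]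

theorem t_norm {ζ : ↥L → ℂ} (hζ : ζ ∈ S₁) : classInner (t ζ) (t ζ) = 1 := by
  rw [lin_inner c.t_iso (zspan_subset hζ) (zspan_subset hζ), classInner_irr_self (c.S₁_irr ζ hζ)]

theorem t_orth {ζ ζ' : ↥L → ℂ} (hζ : ζ ∈ S₁) (hζ' : ζ' ∈ S₁) (hne : ζ ≠ ζ') :
    classInner (t ζ) (t ζ') = 0 := by
  rw [lin_inner c.t_iso (zspan_subset hζ) (zspan_subset hζ'),
    classInner_irr_ne (c.S₁_irr ζ hζ) (c.S₁_irr ζ' hζ') hne]

theorem bridge_inner₀ {ζ : ↥L → ℂ} (hζ : ζ ∈ S₁) {φ ψ : ↥W →* ℂˣ} (hφ : φ ∈ lin₁ W W₂)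
    (hψ : ψ ∈ lin₁ W W₁) (hψ1 : ψ ≠ 1) :
    classInner (dadeIsometry A₀ L R (PF10.Ctx.alpha μ 1 n ζ φ ψ))
      (dadeIsometry A₀ L R (colSum W W₂ μ 1 - ζ)) = (n : ℂ) - 1 := by
  rw [dade_inner c.hD (bridge_class c hζ φ ψ) (bridge_supp c hζ hφ hψ hψ1)
    (gen_isClassFunction (gen₀ c hζ)) (supp₀ c hζ), PF10.Ctx.alpha_def]
  have h1 : classInner (μ (φ * ψ)) (colSum W W₂ μ 1) = 0 := by
    classical
    rw [inner_fam_colSum c.direct (mu_orthonormal c.hμ), if_neg]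
    intro h
    exact PF10.Ctx.mul_notMem_lin₁ c.hD hφ hψ hψ1 h
  have h2 : classInner (μ φ) (colSum W W₂ μ 1) = 1 := by
    classical
    rw [inner_fam_colSum c.direct (mu_orthonormal c.hμ), if_pos]
    intro w hw
    rw [hφ w hw]; rfl
  simp only [classInner_sub_left, classInner_sub_right, classInner_zsmul_left, h1, h2,
    zeta_colSum c hζ, inner_mu_zeta c.hD c.hμ (c.S₁_irr ζ hζ) (c.S₁_sub hζ),
    classInner_irr_self (c.S₁_irr ζ hζ)]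
  push_cast
  ring

/-- support of `ζ - ζ'` -/
theorem sub_supp {ζ ζ' : ↥L → ℂ} (hζ : ζ ∈ S₁) (hζ' : ζ' ∈ S₁) (x : ↥L) (hx : (x : G) ∉ A₀) :
    (ζ - ζ') x = 0 := by
  refine PF10.Ctx.zspanOn_supp c.hD c.S₁_sub (β := ζ - ζ') ?_ x
    (fun h => hx (A_subset_A₀ c.hD h))
  rw [mem_zspanOn_one_iff]
  refine ⟨zspan_sub (zspan_subset hζ) (zspan_subset hζ'), ?_⟩
  rw [Pi.sub_apply, c.S₁_deg ζ hζ, c.S₁_deg ζ' hζ', sub_self]

end basic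

section main

variable (c : Ctx L K W W₁ W₂ A A₀ R μ δ η p q n u S₁ S₂ t) {Θ₀ Θ : G → ℂ}
  (hΘ₀ : ∀ ζ ∈ S₁, dadeIsometry A₀ L R (colSum W W₂ μ 1 - ζ) = Θ₀ - t ζ)
  (hΘ : ∀ ζ ∈ S₁, ∀ φ ∈ lin₁ W W₂, ∀ ψ ∈ lin₁ W W₁, ψ ≠ 1 →
      dadeIsometry A₀ L R (PF10.Ctx.alpha μ 1 n ζ φ ψ) = η (φ * ψ) - η φ - (n : ℤ) • t ζ + Θ)

include c

/-- The residual character `Θ₀`. -/
theorem exists_theta₀ : ∃ Θ₀ : G → ℂ, IsGeneralizedCharacter G Θ₀ ∧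
    ∀ ζ ∈ S₁, dadeIsometry A₀ L R (colSum W W₂ μ 1 - ζ) = Θ₀ - t ζ := by
  obtain ⟨ζ₀, hζ₀⟩ := c.exists_S₁
  refine ⟨dadeIsometry A₀ L R (colSum W W₂ μ 1 - ζ₀) + t ζ₀, gen_add
    (dade_gen c.hD (gen₀ c hζ₀) (supp₀ c hζ₀)) (c.t_gen hζ₀), fun ζ hζ => ?_⟩
  have e : colSum W W₂ μ 1 - ζ = (colSum W W₂ μ 1 - ζ₀) + (ζ₀ - ζ) := by abel
  rw [e, DadeBasic.dadeIsometry_add c.hD.dade (gen_isClassFunction (gen₀ c hζ₀))
    (gen_isClassFunction (gen_sub (zeta_gen c hζ₀) (zeta_gen c hζ))), c.tau_sub hζ₀ hζ]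
  abel

include hΘ₀

theorem inner₀_t {ζ ζ' : ↥L → ℂ} (hζ : ζ ∈ S₁) (hζ' : ζ' ∈ S₁) :
    classInner Θ₀ (t ζ) = classInner Θ₀ (t ζ') := by
  by_cases hne : ζ = ζ'
  · rw [hne]
  have h1 : classInner (dadeIsometry A₀ L R (colSum W W₂ μ 1 - ζ))
      (dadeIsometry A₀ L R (ζ - ζ')) = -1 := by
    rw [dade_inner c.hD (gen_isClassFunction (gen₀ c hζ)) (supp₀ c hζ)
      (gen_isClassFunction (gen_sub (zeta_gen c hζ) (zeta_gen c hζ'))) (sub_supp c hζ hζ')]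
    simp only [classInner_sub_left, classInner_sub_right, colSum_zeta c hζ, colSum_zeta c hζ',
      classInner_irr_self (c.S₁_irr ζ hζ),
      classInner_irr_ne (c.S₁_irr ζ hζ) (c.S₁_irr ζ' hζ') hne]
    ring
  rw [hΘ₀ ζ hζ, c.tau_sub hζ hζ', classInner_sub_left, classInner_sub_right, classInner_sub_right,
    t_norm c hζ, t_orth c hζ hζ' hne] at h1
  linear_combination h1

theorem inner₀_eta {ζ : ↥L → ℂ} (hζ : ζ ∈ S₁) (ω : ↥W →* ℂˣ) :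
    classInner Θ₀ (η ω) =
      classInner (dadeIsometry A₀ L R (colSum W W₂ μ 1 - ζ)) (η ω) := by
  rw [hΘ₀ ζ hζ, classInner_sub_left, c.t_eta hζ, sub_zero]

theorem inner₀_one : classInner Θ₀ (η 1) = 1 := by
  obtain ⟨ζ, hζ⟩ := c.exists_S₁
  rw [inner₀_eta c hΘ₀ hζ, c.hη.map_one, one₀ c hζ]

theorem rule₀ {φ ψ : ↥W →* ℂˣ} (hφ : φ ∈ lin₁ W W₂) (hψ : ψ ∈ lin₁ W W₁) :
    classInner Θ₀ (η (φ * ψ)) = classInner Θ₀ (η φ) + classInner Θ₀ (η ψ) - 1 := by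
  obtain ⟨ζ, hζ⟩ := c.exists_S₁
  have h1 := PF3b.coeff_mul c.hη (gen_isClassFunction
    (dade_gen c.hD (gen₀ c hζ) (supp₀ c hζ))) (fun v hv => zero_V₀ c hζ hv) hφ hψ
  rw [← inner₀_eta c hΘ₀ hζ, ← inner₀_eta c hΘ₀ hζ, ← inner₀_eta c hΘ₀ hζ,
    ← inner₀_eta c hΘ₀ hζ, inner₀_one c hΘ₀] at h1
  linear_combination h1

theorem conj₀ : conjFun Θ₀ = Θ₀ := by
  obtain ⟨ζ, hζ⟩ := c.exists_S₁
  have h1 := hΘ₀ ζ hζ
  have h2 := hΘ₀ _ (c.S₁_conj hζ)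
  have h3 : dadeIsometry A₀ L R (colSum W W₂ μ 1 - conjFun ζ) =
      conjFun (dadeIsometry A₀ L R (colSum W W₂ μ 1 - ζ)) := by
    rw [← PF5Gal.dadeIsometry_conjFun, conjFun_sub, conjFun_colSum_mu c.hD.primeTI c.hμ, lin_inv_one]
  rw [h3, h1, conjFun_sub, c.t_conj hζ] at h2
  exact sub_left_injective h2

omit hΘ₀
include hΘ

theorem Theta_eq {ζ : ↥L → ℂ} (hζ : ζ ∈ S₁) {φ ψ : ↥W →* ℂˣ} (hφ : φ ∈ lin₁ W W₂)
    (hψ : ψ ∈ lin₁ W W₁) (hψ1 : ψ ≠ 1) :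
    Θ = dadeIsometry A₀ L R (PF10.Ctx.alpha μ 1 n ζ φ ψ) - η (φ * ψ) + η φ + (n : ℤ) • t ζ := by
  rw [hΘ ζ hζ φ hφ ψ hψ hψ1]
  abel

theorem inner_t {ζ ζ' : ↥L → ℂ} (hζ : ζ ∈ S₁) (hζ' : ζ' ∈ S₁) :
    classInner Θ (t ζ) = classInner Θ (t ζ') := by
  by_cases hne : ζ = ζ'
  · rw [hne]
  obtain ⟨ψ, hψ, hψ1⟩ := PF3bLin.exists_ne_one₂ c.hD.cyclicTI
  have hφ : (1 : ↥W →* ℂˣ) ∈ lin₁ W W₂ := one_mem_lin₁
  have h1 : classInner (dadeIsometry A₀ L R (PF10.Ctx.alpha μ 1 n ζ 1 ψ))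
      (dadeIsometry A₀ L R (ζ - ζ')) = -(n : ℂ) := by
    rw [dade_inner c.hD (bridge_class c hζ 1 ψ) (bridge_supp c hζ hφ hψ hψ1)
      (gen_isClassFunction (gen_sub (zeta_gen c hζ) (zeta_gen c hζ'))) (sub_supp c hζ hζ'),
      classInner_sub_right, PF10.Ctx.inner_alpha_zeta c.hyp10 (c.S₁_irr ζ hζ) (c.S₁_sub hζ),
      PF10.Ctx.inner_alpha_other c.hyp10 (c.S₁_irr ζ hζ) (c.S₁_irr ζ' hζ') (c.S₁_sub hζ') hne]
    push_cast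
    ring
  rw [hΘ ζ hζ 1 hφ ψ hψ hψ1, c.tau_sub hζ hζ'] at h1
  simp only [classInner_add_left, classInner_sub_left, classInner_sub_right,
    classInner_zsmul_left, c.eta_t hζ, c.eta_t hζ', t_norm c hζ, t_orth c hζ hζ' hne] at h1
  push_cast at h1
  linear_combination h1

theorem inner_one : classInner Θ (η 1) = 0 := by
  obtain ⟨ζ, hζ⟩ := c.exists_S₁
  obtain ⟨ψ, hψ, hψ1⟩ := PF3bLin.exists_ne_one₂ c.hD.cyclicTI
  have hφ : (1 : ↥W →* ℂˣ) ∈ lin₁ W W₂ := one_mem_lin₁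
  have hon := orthonormal_of_fam c.hη
  have h1 : classInner (dadeIsometry A₀ L R (PF10.Ctx.alpha μ 1 n ζ 1 ψ)) (η 1) = -1 := by
    classical
    have h2 : classInner (μ (1 * ψ)) (μ 1) = 0 := by
      refine inner_ne (mu_orthonormal c.hμ) ?_
      rw [lin_one_mul]
      exact hψ1
    rw [c.hη.map_one, PF10.AlphaV.dade_inner_one c.hD.dade (bridge_class c hζ 1 ψ)
      (bridge_supp c hζ hφ hψ hψ1), ← c.hμ.map_one, PF10.Ctx.alpha_def]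
    simp only [classInner_sub_left, classInner_zsmul_left, h2, inner_self (mu_orthonormal c.hμ),
      inner_zeta_mu c.hD c.hμ (c.S₁_irr ζ hζ) (c.S₁_sub hζ)]
    push_cast
    ring
  rw [Theta_eq c hΘ hζ hφ hψ hψ1]
  simp only [classInner_add_left, classInner_sub_left, classInner_zsmul_left, h1,
    c.t_eta hζ, inner_self hon]
  rw [inner_ne hon (by rw [lin_one_mul]; exact hψ1)]
  ring

theorem rule {φ ψ : ↥W →* ℂˣ} (hφ : φ ∈ lin₁ W W₂) (hψ : ψ ∈ lin₁ W W₁) :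
    classInner Θ (η (φ * ψ)) = classInner Θ (η φ) + classInner Θ (η ψ) := by
  obtain ⟨ζ, hζ⟩ := c.exists_S₁
  obtain ⟨ψ₀, hψ₀, hψ₀1⟩ := PF3bLin.exists_ne_one₂ c.hD.cyclicTI
  have hφ₀ : (1 : ↥W →* ℂˣ) ∈ lin₁ W W₂ := one_mem_lin₁
  set D := dadeIsometry A₀ L R (PF10.Ctx.alpha μ 1 n ζ 1 ψ₀) - η (1 * ψ₀) + η 1 with hDdef
  have hDg : IsGeneralizedCharacter G D := gen_add (gen_sub
    (dade_gen c.hD (alpha_gen c.hyp10 (c.S₁_irr ζ hζ) _ _) (bridge_supp c hζ hφ₀ hψ₀ hψ₀1))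
    (gen_of_fam c.hη _)) (gen_of_fam c.hη _)
  have hV : ∀ v ∈ cycTIset W W₁ W₂, D v = 0 := by
    intro v hv
    obtain ⟨hvW, hv₁, hv₂⟩ := mem_cycTIset.1 hv
    have h1 := PF10.Bridge.tau_alpha_V c.hyp10 (c.S₁_irr ζ hζ) (c.S₁_sub hζ) hφ₀ hψ₀ hψ₀1
      ⟨v, hvW⟩ hv₁ hv₂
    have h2 := c.hη.eq_on (1 * ψ₀) ⟨v, hvW⟩ hv₁ hv₂
    have h3 := c.hη.eq_on 1 ⟨v, hvW⟩ hv₁ hv₂
    rw [hDdef, Pi.add_apply, Pi.sub_apply]
    rw [show η (1 * ψ₀) v = _ from h2, show η 1 v = _ from h3]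
    rw [show dadeIsometry A₀ L R (PF10.Ctx.alpha μ 1 n ζ 1 ψ₀) v = _ from h1]
    push_cast
    ring
  have hDin : ∀ ω, classInner Θ (η ω) = classInner D (η ω) := by
    intro ω
    rw [Theta_eq c hΘ hζ hφ₀ hψ₀ hψ₀1, classInner_add_left, classInner_zsmul_left, c.t_eta hζ,
      mul_zero, add_zero]
  have h1 := PF3b.coeff_mul c.hη (gen_isClassFunction hDg) hV hφ hψ
  rw [← hDin, ← hDin, ← hDin, ← hDin, inner_one c hΘ] at h1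
  linear_combination h1

theorem conj_Theta : conjFun Θ = Θ := by
  obtain ⟨ζ, hζ⟩ := c.exists_S₁
  obtain ⟨ψ, hψ, hψ1⟩ := PF3bLin.exists_ne_one₂ c.hD.cyclicTI
  have hφ : (1 : ↥W →* ℂˣ) ∈ lin₁ W W₂ := one_mem_lin₁
  have hψ' : ψ⁻¹ ∈ lin₁ W W₁ := inv_mem_lin₁ hψ
  have hψ1' : ψ⁻¹ ≠ 1 := lin_inv_ne hψ1
  have h3 : dadeIsometry A₀ L R (PF10.Ctx.alpha μ 1 n (conjFun ζ) 1 ψ⁻¹) =
      conjFun (dadeIsometry A₀ L R (PF10.Ctx.alpha μ 1 n ζ 1 ψ)) := by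
    rw [← PF5Gal.dadeIsometry_conjFun, PF10.Ctx.alpha_def, PF10.Ctx.alpha_def, conjFun_sub, conjFun_sub,
      conjFun_zsmul, conjFun_zsmul, (mu_conj c.hD.primeTI c.hμ _).1,
      (mu_conj c.hD.primeTI c.hμ _).1, lin_one_mul, lin_one_mul, lin_inv_one]
  have h1 := Theta_eq c hΘ hζ hφ hψ hψ1
  have h2 := Theta_eq c hΘ (c.S₁_conj hζ) hφ hψ' hψ1'
  rw [h3] at h2
  conv_lhs => rw [h1]
  rw [h2, conjFun_add, conjFun_add, conjFun_sub, conjFun_zsmul, c.t_conj hζ,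
    PF3bGal.conjFun_eta c.hη c.hD.cyclicTI, PF3bGal.conjFun_eta c.hη c.hD.cyclicTI,
    lin_one_mul, lin_one_mul, lin_inv_one]

end main

section coreData

variable (c : Ctx L K W W₁ W₂ A A₀ R μ δ η p q n u S₁ S₂ t)
  [Fintype ↥(lin₁ W W₂)] [Fintype ↥(lin₁ W W₁)] [Fintype ↥S₁]

include c

/-- the `η_ij` in the lattice -/
def eta (i : ↥(lin₁ W W₂)) (j : ↥(lin₁ W W₁)) : ↥(VC G) := ⟨η ((i : ↥W →* ℂˣ) * j), gen_of_fam c.hη _⟩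

/-- the `t ζ` in the lattice -/
def tee (z : ↥S₁) : ↥(VC G) := ⟨t z, c.t_gen z.2⟩

theorem eta_inj {i i' : ↥(lin₁ W W₂)} {j j' : ↥(lin₁ W W₁)}
    (h : (i : ↥W →* ℂˣ) * j = (i' : ↥W →* ℂˣ) * j') : i = i' ∧ j = j' := by
  have := (PF3bLin.mul_eq_mul_iff c.hD.cyclicTI i.2 i'.2 j.2 j'.2).1 h
  exact ⟨Subtype.ext this.1, Subtype.ext this.2⟩

theorem coe_sum_eta :
    ((∑ i, eta c i ⟨1, one_mem_lin₁⟩ : ↥(VC G)) : G → ℂ) = colSum W W₂ η 1 := by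
  rw [AddSubmonoidClass.coe_finset_sum, PF3bLin.colSum_eq_sum c.hD.cyclicTI]
  rfl

theorem coreData {Θ₀ Θ : G → ℂ} (hg₀ : IsGeneralizedCharacter G Θ₀)
    (hg : IsGeneralizedCharacter G Θ)
    (hΘ₀ : ∀ ζ ∈ S₁, dadeIsometry A₀ L R (colSum W W₂ μ 1 - ζ) = Θ₀ - t ζ)
    (hΘ : ∀ ζ ∈ S₁, ∀ φ ∈ lin₁ W W₂, ∀ ψ ∈ lin₁ W W₁, ψ ≠ 1 →
      dadeIsometry A₀ L R (PF10.Ctx.alpha μ 1 n ζ φ ψ) = η (φ * ψ) - η φ - (n : ℤ) • t ζ + Θ) :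
    CoreData (form G) (fun x => conjFun (x : G → ℂ) = x) (⟨1, one_mem_lin₁⟩ : ↥(lin₁ W W₂))
      (⟨1, one_mem_lin₁⟩ : ↥(lin₁ W W₁)) q p n (eta c) (tee c)
      ⟨Θ₀, hg₀⟩ ⟨Θ, hg⟩ where
  hB := isPosForm G
  cardI := by rw [← Nat.card_eq_fintype_card, card_lin₁ c.direct, c.card_W₁]
  cardJ := by rw [← Nat.card_eq_fintype_card, card_lin₁ c.direct.symm, c.card_W₂]
  cardZ := by rw [← Nat.card_eq_fintype_card, Nat.card_coe_set_eq, c.S₁_ncard]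
  q3 := c.q_three
  p3 := c.p_three
  n2 := c.n_two
  n_even := c.n_even
  ηON := by
    constructor
    · intro x
      exact form_of (by rw [Int.cast_one]; exact inner_self (orthonormal_of_fam c.hη) _)
    · intro x y hne
      refine form_of ?_
      rw [Int.cast_zero]
      refine inner_ne (orthonormal_of_fam c.hη) fun h => hne ?_
      obtain ⟨h1, h2⟩ := eta_inj c h
      exact Prod.ext h1 h2
  tON := by
    constructor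
    · intro z
      exact form_of (by rw [Int.cast_one]; exact t_norm c z.2)
    · intro z z' hne
      exact form_of (by rw [Int.cast_zero]; exact t_orth c z.2 z'.2 fun h => hne (Subtype.ext h))
  tη := fun z i j => form_of (by rw [Int.cast_zero]; exact c.t_eta z.2 _)
  parity := by
    intro x y hx hy
    refine parity c.odd x y _ ?_ hx hy
    show η ((1 : ↥W →* ℂˣ) * 1) = _
    rw [lin_one_mul, c.hη.map_one]
  rlΘ₀ := conj₀ c hΘ₀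
  rlΘ := conj_Theta c hΘ
  rlE := by
    show conjFun ((∑ i, eta c i ⟨1, one_mem_lin₁⟩ : ↥(VC G)) : G → ℂ) = _
    rw [coe_sum_eta, PF3bGal.conjFun_colSum c.hη c.hD.cyclicTI, lin_inv_one]
  T₀_norm := by
    intro z
    refine form_of ?_
    show classInner (Θ₀ - t z) (Θ₀ - t z) = _
    rw [← hΘ₀ z z.2, norm₀ c z.2]
    push_cast
    ring
  Tα_norm := by
    intro i j z hj
    refine form_of ?_
    have hj1 : (j : ↥W →* ℂˣ) ≠ 1 := fun h => hj (Subtype.ext h)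
    have e : ((eta c i j - eta c i ⟨1, one_mem_lin₁⟩ - (n : ℤ) • tee c z + ⟨Θ, hg⟩ : ↥(VC G)) : G → ℂ) =
        dadeIsometry A₀ L R (PF10.Ctx.alpha μ 1 n z i j) := by
      rw [hΘ z z.2 i i.2 j j.2 hj1]
      show η ((i : ↥W →* ℂˣ) * j) - η ((i : ↥W →* ℂˣ) * 1) - (n : ℤ) • t z + Θ = _
      rw [lin_mul_one]
    rw [e, PF10.Bridge.tau_alpha_norm c.hyp10 (c.S₁_irr z z.2) (c.S₁_sub z.2)
      (by rw [c.S₁_deg z z.2, c.card_W₁]) i.2 j.2 hj1]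
    push_cast
    ring
  T_inner := by
    intro i j z hj
    refine form_of ?_
    have hj1 : (j : ↥W →* ℂˣ) ≠ 1 := fun h => hj (Subtype.ext h)
    have e : ((eta c i j - eta c i ⟨1, one_mem_lin₁⟩ - (n : ℤ) • tee c z + ⟨Θ, hg⟩ : ↥(VC G)) : G → ℂ) =
        dadeIsometry A₀ L R (PF10.Ctx.alpha μ 1 n z i j) := by
      rw [hΘ z z.2 i i.2 j j.2 hj1]
      show η ((i : ↥W →* ℂˣ) * j) - η ((i : ↥W →* ℂˣ) * 1) - (n : ℤ) • t z + Θ = _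
      rw [lin_mul_one]
    have e₀ : (((⟨Θ₀, hg₀⟩ : ↥(VC G)) - tee c z : ↥(VC G)) : G → ℂ) =
        dadeIsometry A₀ L R (colSum W W₂ μ 1 - z) := (hΘ₀ z z.2).symm
    rw [e, e₀, bridge_inner₀ c z.2 i.2 j.2 hj1]
    push_cast
    ring
  y_const := fun z z' => form_congr (inner₀_t c hΘ₀ z.2 z'.2)
  a_const := fun z z' => form_congr (inner_t c hΘ z.2 z'.2)
  rule₀ := by
    intro i j
    have h1 := rule₀ c hΘ₀ i.2 j.2
    have h2 : ((form G ⟨Θ₀, hg₀⟩ (eta c i j) : ℤ) : ℂ) =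
        ((form G ⟨Θ₀, hg₀⟩ (eta c i ⟨1, one_mem_lin₁⟩) +
          form G ⟨Θ₀, hg₀⟩ (eta c ⟨1, one_mem_lin₁⟩ j) - 1 : ℤ) : ℂ) := by
      push_cast
      rw [form_eq, form_eq, form_eq]
      show classInner Θ₀ (η ((i : ↥W →* ℂˣ) * j)) = classInner Θ₀ (η ((i : ↥W →* ℂˣ) * 1)) +
        classInner Θ₀ (η ((1 : ↥W →* ℂˣ) * j)) - 1
      rw [lin_mul_one, lin_one_mul, h1]
    exact_mod_cast h2
  Θ₀_one := by
    refine form_of ?_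
    show classInner Θ₀ (η ((1 : ↥W →* ℂˣ) * 1)) = _
    rw [lin_one_mul, inner₀_one c hΘ₀, Int.cast_one]
  rule := by
    intro i j
    have h1 := rule c hΘ i.2 j.2
    have h2 : ((form G ⟨Θ, hg⟩ (eta c i j) : ℤ) : ℂ) =
        ((form G ⟨Θ, hg⟩ (eta c i ⟨1, one_mem_lin₁⟩) +
          form G ⟨Θ, hg⟩ (eta c ⟨1, one_mem_lin₁⟩ j) : ℤ) : ℂ) := by
      push_cast
      rw [form_eq, form_eq, form_eq]
      show classInner Θ (η ((i : ↥W →* ℂˣ) * j)) = classInner Θ (η ((i : ↥W →* ℂˣ) * 1)) +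
        classInner Θ (η ((1 : ↥W →* ℂˣ) * j))
      rw [lin_mul_one, lin_one_mul, h1]
    exact_mod_cast h2
  Θ_one := by
    refine form_of ?_
    show classInner Θ (η ((1 : ↥W →* ℂˣ) * 1)) = _
    rw [lin_one_mul, inner_one c hΘ, Int.cast_zero]

end coreData

end Cfsg.Agent.OddOrderCharacters.PF11.Data
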