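import Cfsg.Agent.OddOrderCharacters.PFDefs

/-!
# Peterfalvi, section 11: the standing hypotheses

`M` is a maximal subgroup of type III or IV (of a minimal simple group of odd order), `H = M_F`,
`C = C_U(H)`, `p = #W₂`, `q = #W₁`, and `H₀` is a normal subgroup of `M` such that `H/H₀` is a chief factor of
`M` and `C_H(U) ≤ H₀` (`Ptype_Fcore_kernel` of section 9).
-/

set_option autoImplicit false

open Cfsg

namespace Cfsg.Agent.OddOrderCharacters.PF11.Defs

universe u

variable {G : Type u} [Group G]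

/-- The group theoretic standing hypotheses of section 11. -/
structure Hyp (M U W₁ W₂ H₀ : Subgroup G) (p q : ℕ) : Prop where
  finite : Finite G
  odd : Odd (Nat.card G)
  solvable : Group.IsSolvable ↥M
  typeP : IsTypePWith M W₁ U W₂
  U_ne : U ≠ ⊥
  p_prime : p.Prime
  q_prime : q.Prime
  card_W₁ : Nat.card ↥W₁ = q
  card_W₂ : Nat.card ↥W₂ = p
  H₀_le : H₀ ≤ fittingHallOf M
  H₀_ne : H₀ ≠ fittingHallOf M
  H₀_normal : ∀ x ∈ M, ∀ h ∈ H₀, x * h * x⁻¹ ∈ H₀
  chief : ∀ N : Subgroup G, H₀ ≤ N → N ≤ fittingHallOf M → (∀ x ∈ M, ∀ h ∈ N, x * h * x⁻¹ ∈ N) →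
    N = H₀ ∨ N = fittingHallOf M
  cent_le : fittingHallOf M ⊓ Subgroup.centralizer (U : Set G) ≤ H₀

/-- `C = C_U(H)`. -/
def cent (M U : Subgroup G) : Subgroup G := U ⊓ Subgroup.centralizer (fittingHallOf M : Set G)

theorem cent_def (M U : Subgroup G) :
    cent M U = U ⊓ Subgroup.centralizer (fittingHallOf M : Set G) := rfl

end Cfsg.Agent.OddOrderCharacters.PF11.Defs
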