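import Cfsg.Agent.OddOrderCharacters.PF11.Ctx
import Cfsg.Agent.OddOrderCharacters.PF4b.CohExt2

/-!
# Peterfalvi (11.8), (11.9): the images of `S₁` and `S₂` under coherent extensions are orthogonal
-/

set_option autoImplicit false
set_option linter.unusedSectionVars false

open scoped ComplexConjugate
open Cfsg Cfsg.Agent.Characters.Core Cfsg.Agent.OddOrderCharacters.VChar
  Cfsg.Agent.OddOrderCharacters.PFDefs Cfsg.Agent.OddOrderCharacters.ColSum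
  Cfsg.Agent.OddOrderCharacters.PF11.Ctx

namespace Cfsg.Agent.OddOrderCharacters.PF11.SignedOrth

universe u

variable {G : Type u} [Group G] [Fintype G] {L K W W₁ W₂ : Subgroup G} [Fintype ↥L]
  {A A₀ : Set G} {R : G → Subgroup G}
  {μ : (↥W →* ℂˣ) → (↥L → ℂ)} {δ : (↥W →* ℂˣ) → ℤ} {η : (↥W →* ℂˣ) → (G → ℂ)}
  {p q n u : ℕ} {S₁ S₂ : Set (↥L → ℂ)} {t : (↥L → ℂ) → (G → ℂ)}

section
variable (c : Ctx L K W W₁ W₂ A A₀ R μ δ η p q n u S₁ S₂ t)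
include c

theorem disj : Disjoint S₁ S₂ := by
  rw [Set.disjoint_left]
  intro ζ h1 h2
  have h3 := c.orth ζ h1 ζ h2
  rw [classInner_irr_self (c.S₁_irr ζ h1)] at h3
  exact one_ne_zero h3

theorem union_sub : S₁ ∪ S₂ ⊆ seqIndOf L K K ⊥ := Set.union_subset c.S₁_sub c.S₂_sub

theorem union_conj : ∀ χ ∈ S₁ ∪ S₂, conjFun χ ∈ S₁ ∪ S₂ := by
  rintro χ (h | h)
  · exact Or.inl (c.S₁_conj h)
  · exact Or.inr (c.S₂_conj χ h)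

/-- the images of `S₁` and `S₂` under any two coherent extensions are orthogonal (no irreducibility of
the member of `S₂` needed) -/
theorem ortho {t' τ₂ : (↥L → ℂ) → (G → ℂ)} (hi : IsLinearIsometryOn (zspan S₁) t')
    (he : ∀ α ∈ zspanOn S₁ {1}ᶜ, t' α = dadeIsometry A₀ L R α)
    (hi₂ : IsLinearIsometryOn (zspan S₂) τ₂)
    (he₂ : ∀ α ∈ zspanOn S₂ {1}ᶜ, τ₂ α = dadeIsometry A₀ L R α)
    {ζ ξ : ↥L → ℂ} (hζ : ζ ∈ S₁) (hξ : ξ ∈ S₂) : classInner (t' ζ) (τ₂ ξ) = 0 := by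
  obtain ⟨Rf, hsys, -, -⟩ := PF4b.Subcoherent.prDade_subcoherent c.hD c.hμ c.hη c.oddL
    (union_sub c) ⟨ζ, Or.inl hζ⟩ (union_conj c)
  exact PF4b.CohExt2.coherent_ortho_mem hsys Set.subset_union_left Set.subset_union_right
    (fun _ h => c.S₁_conj h) c.S₂_conj (disj c) hi hi₂ he he₂ hζ hξ

theorem ortho_t {τ₂ : (↥L → ℂ) → (G → ℂ)} (hi₂ : IsLinearIsometryOn (zspan S₂) τ₂)
    (he₂ : ∀ α ∈ zspanOn S₂ {1}ᶜ, τ₂ α = dadeIsometry A₀ L R α)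
    {ζ ξ : ↥L → ℂ} (hζ : ζ ∈ S₁) (hξ : ξ ∈ S₂) : classInner (t ζ) (τ₂ ξ) = 0 :=
  ortho c c.t_iso c.t_ext hi₂ he₂ hζ hξ

theorem ortho_t' {τ₂ : (↥L → ℂ) → (G → ℂ)} (hi₂ : IsLinearIsometryOn (zspan S₂) τ₂)
    (he₂ : ∀ α ∈ zspanOn S₂ {1}ᶜ, τ₂ α = dadeIsometry A₀ L R α)
    {ζ ξ : ↥L → ℂ} (hζ : ζ ∈ S₁) (hξ : ξ ∈ S₂) : classInner (τ₂ ξ) (t ζ) = 0 :=
  classInner_comm_eq_zero (ortho_t c hi₂ he₂ hζ hξ)

end

end Cfsg.Agent.OddOrderCharacters.PF11.SignedOrth
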