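import Cfsg.Agent.OddOrderCharacters.PF11.TauCol
import Cfsg.Agent.OddOrderCharacters.PF11.SignedOrth

/-!
# Peterfalvi (11.9)(c): the residual character `Θ₃`
-/

set_option autoImplicit false
set_option linter.unusedSectionVars false
set_option linter.dupNamespace false

open scoped ComplexConjugate
open Cfsg Cfsg.Agent.Characters.Core Cfsg.Agent.OddOrderCharacters.VChar
  Cfsg.Agent.OddOrderCharacters.PFDefs Cfsg.Agent.OddOrderCharacters.ColSum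
  Cfsg.Agent.OddOrderCharacters.PF4b.TIFam Cfsg.Agent.OddOrderCharacters.PF4b.Prime
  Cfsg.Agent.OddOrderCharacters.PF10.Ctx Cfsg.Agent.OddOrderCharacters.PF11.Ctx
  Cfsg.Agent.OddOrderCharacters.PF11.Theta Cfsg.Agent.OddOrderCharacters.PF11.Data

namespace Cfsg.Agent.OddOrderCharacters.PF11.Nine

universe u

variable {G : Type u} [Group G] [Fintype G] {L K W W₁ W₂ : Subgroup G} [Fintype ↥L]
  {A A₀ : Set G} {R : G → Subgroup G}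
  {μ : (↥W →* ℂˣ) → (↥L → ℂ)} {δ : (↥W →* ℂˣ) → ℤ} {η : (↥W →* ℂˣ) → (G → ℂ)}
  {p q n u : ℕ} {S₁ S₂ : Set (↥L → ℂ)} {t : (↥L → ℂ) → (G → ℂ)}

/-- `τ₂ μ_j = Σ_i η_ij` when `S₂` has an irreducible member and `p ≥ 5`. -/
theorem tau₂_colSum (c : Ctx L K W W₁ W₂ A A₀ R μ δ η p q n u S₁ S₂ t)
    {τ₂ : (↥L → ℂ) → (G → ℂ)} (h₂ : IsLinearIsometryOn (zspan S₂) τ₂)
    (he₂ : ∀ α ∈ zspanOn S₂ {1}ᶜ, τ₂ α = dadeIsometry A₀ L R α)
    {lam : ↥L → ℂ} (hlam : lam ∈ S₂) (hirr : IsIrrCharacter ↥L lam) (hp : 5 ≤ p)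
    {ψ : ↥W →* ℂˣ} (hψ : ψ ∈ lin₁ W W₁) (hψ1 : ψ ≠ 1) :
    τ₂ (colSum W W₂ μ ψ) = colSum W W₂ η ψ := by
  classical
  -- a third index
  obtain ⟨ψ', hψ', hne1, hne2, hne3⟩ : ∃ ψ' ∈ lin₁ W W₁, ψ' ≠ 1 ∧ ψ' ≠ ψ ∧ ψ' ≠ ψ⁻¹ := by
    by_contra hcon
    push Not at hcon
    have h1 := card_linFin c.direct.symm
    have h2 : linFin c.direct.symm ⊆ {1, ψ, ψ⁻¹} := by
      intro χ hχ
      rw [mem_linFin] at hχ
      by_cases hχ1 : χ = 1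
      · simp [hχ1]
      · by_cases hχ2 : χ = ψ
        · simp [hχ2]
        · simp [hcon χ hχ hχ1 hχ2]
    have h3 := Finset.card_le_card h2
    have h4 := Finset.card_le_three (a := (1 : ↥W →* ℂˣ)) (b := ψ) (c := ψ⁻¹)
    rw [h1, c.card_W₂] at h3
    omega
  have hψn := PF10.Ctx.notMem_lin₁ c.hD hψ hψ1
  have hψn' := PF10.Ctx.notMem_lin₁ c.hD hψ' hne1
  have key : ∀ χ ∈ lin₁ W W₁, ∀ χ' ∈ lin₁ W W₁, (∀ w : ↥W, (w : G) ∈ W₂ → χ w = χ' w) →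
      χ = χ' := by
    intro χ hχ χ' hχ' h
    have hm : χ * χ'⁻¹ ∈ lin₁ W W₂ := mul_inv_mem_lin₁.2 h
    have hm' : χ * χ'⁻¹ ∈ lin₁ W W₁ := mul_mem_lin₁ hχ (inv_mem_lin₁ hχ')
    exact mul_inv_eq_one.1 (eq_one_of_mem c.direct hm' hm)
  have h := PF4b.CohExt.coherent_prDade_TIred' c.hD c.hμ c.hη c.oddL c.S₂_sub c.S₂_conj h₂ he₂
    ⟨lam, hlam, hirr⟩ (c.colSum_mem ψ hψn) (c.colSum_mem ψ' hψn')
    (by rw [c.deg ψ hψn, c.deg ψ' hψn']) (fun h => hne2 (key ψ hψ ψ' hψ' h).symm)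
    (fun h => hne3 (key ψ⁻¹ (inv_mem_lin₁ hψ) ψ' hψ' h).symm)
  rw [h, c.sgn ψ hψn, Int.cast_one, one_smul]

theorem theta3 (c : Ctx L K W W₁ W₂ A A₀ R μ δ η p q n u S₁ S₂ t) {Θ₀ Θ : G → ℂ}
    (_hg₀ : IsGeneralizedCharacter G Θ₀) (_hg : IsGeneralizedCharacter G Θ)
    (hΘ₀ : ∀ ζ ∈ S₁, dadeIsometry A₀ L R (colSum W W₂ μ 1 - ζ) = Θ₀ - t ζ)
    (hΘ : ∀ ζ ∈ S₁, ∀ φ ∈ lin₁ W W₂, ∀ ψ ∈ lin₁ W W₁, ψ ≠ 1 →
      dadeIsometry A₀ L R (PF10.Ctx.alpha μ 1 n ζ φ ψ) = η (φ * ψ) - η φ - (n : ℤ) • t ζ + Θ)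
    {τ₂ : (↥L → ℂ) → (G → ℂ)} (h₂ : IsLinearIsometryOn (zspan S₂) τ₂)
    (he₂ : ∀ α ∈ zspanOn S₂ {1}ᶜ, τ₂ α = dadeIsometry A₀ L R α)
    {lam : ↥L → ℂ} (hlam : lam ∈ S₂) (hirr : IsIrrCharacter ↥L lam) {a b : ℕ}
    (ha : lam 1 = (q : ℂ) * a) (hba : b * a = u) (hp : 5 ≤ p) :
    ∃ Θ₃ : G → ℂ, IsGeneralizedCharacter G Θ₃ ∧
      classInner (τ₂ lam) (τ₂ lam) = 1 ∧ classInner (τ₂ (conjFun lam)) (τ₂ (conjFun lam)) = 1 ∧
      classInner (τ₂ lam) (τ₂ (conjFun lam)) = 0 ∧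
      (∀ ζ ∈ S₁, classInner (τ₂ lam) (t ζ) = 0 ∧ classInner (τ₂ (conjFun lam)) (t ζ) = 0) ∧
      (∀ ω, classInner (τ₂ lam) (η ω) = 0 ∧ classInner (τ₂ (conjFun lam)) (η ω) = 0) ∧
      (∀ ζ ∈ S₁, classInner (τ₂ lam - (a : ℤ) • t ζ + Θ₃) (τ₂ lam - (a : ℤ) • t ζ + Θ₃) = 1 + (a : ℂ) ^ 2) ∧
      (∀ ζ ∈ S₁, ∀ ζ' ∈ S₁, classInner Θ₃ (t ζ) = classInner Θ₃ (t ζ')) ∧
      classInner Θ₃ (τ₂ lam) = classInner Θ₃ (τ₂ (conjFun lam)) ∧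
      (b : ℤ) • Θ₃ = (q : ℤ) • Θ + Θ₀ - colSum W W₂ η 1 := by
  classical
  obtain ⟨ζ₀, hζ₀⟩ := c.exists_S₁
  have hlamc : conjFun lam ∈ S₂ := c.S₂_conj lam hlam
  have hirrc : IsIrrCharacter ↥L (conjFun lam) := isIrr_conjFun hirr
  have hz := zspan_subset hlam
  have hzc := zspan_subset hlamc
  have hne : conjFun lam ≠ lam := PF10.Ctx.conj_ne c.oddL c.hD hirr (c.S₂_sub hlam)
  have hgl : IsGeneralizedCharacter G (τ₂ lam) := lin_gen h₂ hz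
  -- inner products in `L`
  have hlz : ∀ ζ ∈ S₁, classInner lam ζ = 0 := fun ζ hζ =>
    classInner_comm_eq_zero (c.orth ζ hζ lam hlam)
  have hzl : ∀ ζ ∈ S₁, classInner ζ lam = 0 := fun ζ hζ => c.orth ζ hζ lam hlam
  have hzlc : ∀ ζ ∈ S₁, classInner ζ (conjFun lam) = 0 := fun ζ hζ => c.orth ζ hζ _ hlamc
  -- inner products in `G`
  have n1 : classInner (τ₂ lam) (τ₂ lam) = 1 := by
    rw [lin_inner h₂ hz hz, classInner_irr_self hirr]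
  have n2 : classInner (τ₂ (conjFun lam)) (τ₂ (conjFun lam)) = 1 := by
    rw [lin_inner h₂ hzc hzc, classInner_irr_self hirrc]
  have n3 : classInner (τ₂ lam) (τ₂ (conjFun lam)) = 0 := by
    rw [lin_inner h₂ hz hzc, classInner_irr_ne hirr hirrc hne.symm]
  have olt : ∀ ζ ∈ S₁, classInner (τ₂ lam) (t ζ) = 0 := fun ζ hζ =>
    classInner_comm_eq_zero (SignedOrth.ortho_t c h₂ he₂ hζ hlam)
  have otl : ∀ ζ ∈ S₁, classInner (t ζ) (τ₂ lam) = 0 := fun ζ hζ =>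
    SignedOrth.ortho_t c h₂ he₂ hζ hlam
  have olct : ∀ ζ ∈ S₁, classInner (τ₂ (conjFun lam)) (t ζ) = 0 := fun ζ hζ =>
    classInner_comm_eq_zero (SignedOrth.ortho_t c h₂ he₂ hζ hlamc)
  have otlc : ∀ ζ ∈ S₁, classInner (t ζ) (τ₂ (conjFun lam)) = 0 := fun ζ hζ =>
    SignedOrth.ortho_t c h₂ he₂ hζ hlamc
  -- the differences
  have hgen : ∀ ζ ∈ S₁, IsGeneralizedCharacter ↥L (lam - (a : ℤ) • ζ) := fun ζ hζ =>
    gen_sub (gen_of_irr hirr) (gen_zsmul _ (zeta_gen c hζ))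
  have hsub : S₁ ∪ S₂ ⊆ seqIndOf L K K ⊥ := Set.union_subset c.S₁_sub c.S₂_sub
  have hsupp : ∀ ζ ∈ S₁, ∀ x : ↥L, (x : G) ∉ A₀ → (lam - (a : ℤ) • ζ) x = 0 := by
    intro ζ hζ x hx
    refine PF10.Ctx.zspanOn_supp c.hD hsub (β := lam - (a : ℤ) • ζ) ?_ x
      (fun h => hx (A_subset_A₀ c.hD h))
    rw [mem_zspanOn_one_iff]
    refine ⟨zspan_sub (zspan_subset (Or.inr hlam)) (zspan_zsmul _ (zspan_subset (Or.inl hζ))), ?_⟩
    rw [Pi.sub_apply, Pi.smul_apply, ha, c.S₁_deg ζ hζ, zsmul_eq_mul]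
    push_cast
    ring
  have hcmem : lam - conjFun lam ∈ zspanOn S₂ {1}ᶜ := by
    rw [mem_zspanOn_one_iff]
    refine ⟨zspan_sub hz hzc, ?_⟩
    rw [Pi.sub_apply, conjFun_apply, ha]
    simp
  have hcsupp : ∀ x : ↥L, (x : G) ∉ A₀ → (lam - conjFun lam) x = 0 := fun x hx =>
    PF10.Ctx.zspanOn_supp c.hD c.S₂_sub hcmem x (fun h => hx (A_subset_A₀ c.hD h))
  have hcgen : IsGeneralizedCharacter ↥L (lam - conjFun lam) :=
    gen_sub (gen_of_irr hirr) (gen_of_irr hirrc)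
  obtain ⟨Θ₃, hΘ₃⟩ : ∃ Θ₃ : G → ℂ, Θ₃ = dadeIsometry A₀ L R (lam - (a : ℤ) • ζ₀) - τ₂ lam +
    (a : ℤ) • t ζ₀ := ⟨_, rfl⟩
  have key : ∀ ζ ∈ S₁, dadeIsometry A₀ L R (lam - (a : ℤ) • ζ) =
      τ₂ lam - (a : ℤ) • t ζ + Θ₃ := by
    intro ζ hζ
    have e : lam - (a : ℤ) • ζ = (lam - (a : ℤ) • ζ₀) + (a : ℤ) • (ζ₀ - ζ) := by
      rw [smul_sub]; abel
    have hcl : IsClassFunction ↥L (ζ₀ - ζ) :=
      gen_isClassFunction (gen_sub (zeta_gen c hζ₀) (zeta_gen c hζ))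
    rw [e, DadeBasic.dadeIsometry_add c.hD.dade (gen_isClassFunction (hgen ζ₀ hζ₀))
      (gen_isClassFunction (gen_zsmul _ (gen_sub (zeta_gen c hζ₀) (zeta_gen c hζ)))),
      DadeBasic.dadeIsometry_zsmul c.hD.dade hcl, c.tau_sub hζ₀ hζ, hΘ₃, smul_sub]
    abel
  have hg₃ : IsGeneralizedCharacter G Θ₃ := by
    rw [hΘ₃]
    exact gen_add (gen_sub (dade_gen c.hD (hgen ζ₀ hζ₀) (hsupp ζ₀ hζ₀)) hgl)
      (gen_zsmul _ (c.t_gen hζ₀))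
  refine ⟨Θ₃, hg₃, n1, n2, n3, fun ζ hζ => ⟨olt ζ hζ, olct ζ hζ⟩, fun ω => ⟨?_, ?_⟩, ?_, ?_, ?_, ?_⟩
  · exact PF4b.CohExt.coherent_ortho_cycTIiso c.hD c.hη c.oddL c.S₂_sub c.S₂_conj h₂ he₂ hlam hirr ω
  · exact PF4b.CohExt.coherent_ortho_cycTIiso c.hD c.hη c.oddL c.S₂_sub c.S₂_conj h₂ he₂ hlamc
      hirrc ω
  · intro ζ hζ
    rw [← key ζ hζ, dade_inner c.hD (gen_isClassFunction (hgen ζ hζ)) (hsupp ζ hζ)
      (gen_isClassFunction (hgen ζ hζ)) (hsupp ζ hζ)]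
    simp only [classInner_sub_left, classInner_sub_right, classInner_zsmul_left,
      classInner_zsmul_right, classInner_irr_self hirr, classInner_irr_self (c.S₁_irr ζ hζ),
      hlz ζ hζ, hzl ζ hζ]
    push_cast
    ring
  · intro ζ hζ ζ' hζ'
    by_cases hzz : ζ = ζ'
    · rw [hzz]
    have h1 : classInner (dadeIsometry A₀ L R (lam - (a : ℤ) • ζ))
        (dadeIsometry A₀ L R (ζ - ζ')) = -(a : ℂ) := by
      rw [dade_inner c.hD (gen_isClassFunction (hgen ζ hζ)) (hsupp ζ hζ)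
        (gen_isClassFunction (gen_sub (zeta_gen c hζ) (zeta_gen c hζ'))) (sub_supp c hζ hζ')]
      simp only [classInner_sub_left, classInner_sub_right, classInner_zsmul_left,
        classInner_irr_self (c.S₁_irr ζ hζ), hlz ζ hζ, hlz ζ' hζ',
        classInner_irr_ne (c.S₁_irr ζ hζ) (c.S₁_irr ζ' hζ') hzz]
      push_cast
      ring
    rw [key ζ hζ, c.tau_sub hζ hζ'] at h1
    simp only [classInner_add_left, classInner_sub_left, classInner_sub_right,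
      classInner_zsmul_left, olt ζ hζ, olt ζ' hζ', t_norm c hζ, t_orth c hζ hζ' hzz] at h1
    push_cast at h1
    linear_combination h1
  · have h1 : classInner (dadeIsometry A₀ L R (lam - (a : ℤ) • ζ₀))
        (dadeIsometry A₀ L R (lam - conjFun lam)) = 1 := by
      rw [dade_inner c.hD (gen_isClassFunction (hgen ζ₀ hζ₀)) (hsupp ζ₀ hζ₀)
        (gen_isClassFunction hcgen) hcsupp]
      simp only [classInner_sub_left, classInner_sub_right, classInner_zsmul_left,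
        classInner_irr_self hirr, classInner_irr_ne hirr hirrc hne.symm, hzl ζ₀ hζ₀, hzlc ζ₀ hζ₀]
      ring
    rw [key ζ₀ hζ₀, ← he₂ _ hcmem, span_sub h₂ hz hzc] at h1
    simp only [classInner_add_left, classInner_sub_left, classInner_sub_right,
      classInner_zsmul_left, n1, n3, otl ζ₀ hζ₀, otlc ζ₀ hζ₀] at h1
    linear_combination h1
  · obtain ⟨ψ, hψ, hψ1⟩ := PF3bLin.exists_ne_one₂ c.hD.cyclicTI
    have hψn := PF10.Ctx.notMem_lin₁ c.hD hψ hψ1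
    have hcol := tau₂_colSum c h₂ he₂ hlam hirr hp hψ hψ1
    have hcz := zspan_subset (c.colSum_mem ψ hψn)
    have hmem : (b : ℤ) • lam - colSum W W₂ μ ψ ∈ zspanOn S₂ {1}ᶜ := by
      rw [mem_zspanOn_one_iff]
      refine ⟨zspan_sub (zspan_zsmul _ hz) hcz, ?_⟩
      rw [Pi.sub_apply, Pi.smul_apply, ha, c.colSum_one hψn, zsmul_eq_mul, ← hba]
      push_cast
      ring
    have e1 : (b : ℤ) • (lam - (a : ℤ) • ζ₀) = ((b : ℤ) • lam - colSum W W₂ μ ψ) +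
        (colSum W W₂ μ ψ - (u : ℤ) • ζ₀) := by
      rw [smul_sub, ← mul_smul, ← hba]
      push_cast
      abel
    have h1 : dadeIsometry A₀ L R ((b : ℤ) • (lam - (a : ℤ) • ζ₀)) =
        (b : ℤ) • (τ₂ lam - (a : ℤ) • t ζ₀ + Θ₃) := by
      rw [DadeBasic.dadeIsometry_zsmul c.hD.dade (gen_isClassFunction (hgen ζ₀ hζ₀)), key ζ₀ hζ₀]
    rw [e1, DadeBasic.dadeIsometry_add c.hD.dade
      (gen_isClassFunction (gen_sub (gen_zsmul _ (gen_of_irr hirr)) (colSum_gen c ψ)))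
      (gen_isClassFunction (gen_sub (colSum_gen c ψ) (gen_zsmul _ (zeta_gen c hζ₀)))),
      ← he₂ _ hmem, span_sub h₂ (zspan_zsmul _ hz) hcz, lin_zsmul h₂ hz, hcol,
      TauCol.tau_colSum_sub c hΘ₀ hΘ hζ₀ hψ hψ1] at h1
    have e2 : (u : ℤ) • t ζ₀ = (b : ℤ) • ((a : ℤ) • t ζ₀) := by
      rw [← mul_smul, ← hba]
      push_cast
      rfl
    rw [e2, smul_add, smul_sub] at h1
    have h3 : (b : ℤ) • Θ₃ = ((b : ℤ) • τ₂ lam - (b : ℤ) • ((a : ℤ) • t ζ₀) + (b : ℤ) • Θ₃) -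
        (b : ℤ) • τ₂ lam + (b : ℤ) • ((a : ℤ) • t ζ₀) := by abel
    rw [h3, ← h1]
    abel

end Cfsg.Agent.OddOrderCharacters.PF11.Nine
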