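import Cfsg.Agent.OddOrderCharacters.PF11.Ctx

/-!
# Peterfalvi (11.9)(a), the Galois part: the coefficients `(Θ₀, η_i0)`, `i ≠ 0`, are all equal
-/

set_option autoImplicit false

open scoped ComplexConjugate
open Cfsg Cfsg.Agent.Characters.Core Cfsg.Agent.OddOrderCharacters.VChar
  Cfsg.Agent.OddOrderCharacters.PFDefs Cfsg.Agent.OddOrderCharacters.ColSum
  Cfsg.Agent.OddOrderCharacters.Galois Cfsg.Agent.OddOrderCharacters.PF3bGal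
  Cfsg.Agent.OddOrderCharacters.PF11.Ctx

namespace Cfsg.Agent.OddOrderCharacters.PF11.Row

universe u

/-- `lin₁ W W₂` as a subgroup of the group of linear characters. -/
def lin₁Sub {G : Type u} [Group G] (W W₂ : Subgroup G) : Subgroup (↥W →* ℂˣ) where
  carrier := lin₁ W W₂
  one_mem' := fun _ _ => rfl
  mul_mem' := fun {a b} ha hb w hw => by rw [MonoidHom.mul_apply, ha w hw, hb w hw, one_mul]
  inv_mem' := fun {a} ha w hw => by rw [MonoidHom.inv_apply, ha w hw, inv_one]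

theorem mem_lin₁Sub {G : Type u} [Group G] {W W₂ : Subgroup G} {φ : ↥W →* ℂˣ} :
    φ ∈ lin₁Sub W W₂ ↔ φ ∈ lin₁ W W₂ := Iff.rfl

variable {G : Type u} [Group G] [Fintype G] {L K W W₁ W₂ : Subgroup G} [Fintype ↥L]
  {A A₀ : Set G} {R : G → Subgroup G}
  {μ : (↥W →* ℂˣ) → (↥L → ℂ)} {δ : (↥W →* ℂˣ) → ℤ} {η : (↥W →* ℂˣ) → (G → ℂ)}
  {p q n u : ℕ} {S₁ S₂ : Set (↥L → ℂ)} {t : (↥L → ℂ) → (G → ℂ)}

/-- Two nonprincipal characters of `W` trivial on `W₂` are powers of each other, when `#W₁` is prime. -/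
theorem exists_pow_eq (hW : CyclicTIHyp W W₁ W₂) {q : ℕ} (hq : q.Prime) (hcard : Nat.card W₁ = q)
    {φ φ' : ↥W →* ℂˣ} (hφ : φ ∈ lin₁ W W₂) (hφ' : φ' ∈ lin₁ W W₂) (h1 : φ ≠ 1) (h1' : φ' ≠ 1) :
    ∃ k : ℕ, k.Coprime q ∧ φ ^ k = φ' ∧ φ ^ q = 1 := by
  have hc : Nat.card (lin₁Sub W W₂) = q := by
    have := card_lin₁ (isDirect_of_hyp hW)
    rw [hcard] at this
    exact this
  have hqf : Fact q.Prime := ⟨hq⟩
  have hx1 : (⟨φ, hφ⟩ : lin₁Sub W W₂) ≠ 1 := fun h => h1 (congrArg Subtype.val h)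
  have h2 : (⟨φ, hφ⟩ : lin₁Sub W W₂) ^ q = 1 := by
    rw [← hc]; exact pow_card_eq_one'
  have hpow : φ ^ q = 1 := congrArg Subtype.val h2
  obtain ⟨k, hk⟩ := mem_powers_of_prime_card (g' := (⟨φ', hφ'⟩ : lin₁Sub W W₂)) hc hx1
  have hk' : φ ^ k = φ' := congrArg Subtype.val hk
  refine ⟨k, ?_, hk', hpow⟩
  refine (Nat.Coprime.symm ((Nat.Prime.coprime_iff_not_dvd hq).mpr ?_))
  rintro ⟨m, rfl⟩
  apply h1'
  rw [← hk']
  have h3 : (⟨φ, hφ⟩ : lin₁Sub W W₂) ^ (q * m) = 1 := by rw [pow_mul, h2, one_pow]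
  exact congrArg Subtype.val h3

section
variable (c : Ctx L K W W₁ W₂ A A₀ R μ δ η p q n u S₁ S₂ t)
include c

/-- `μ_0 = ∑_i μ_i0` is rational. -/
theorem gal_colSum_mu_one (σ : ℂ ≃+* ℂ) : gal σ (colSum W W₂ μ 1) = colSum W W₂ μ 1 := by
  rw [← c.hμ.ind_restrict 1]
  have h1 : (fun k : ↥(K.subgroupOf L) => μ 1 (k : ↥L)) = gal σ (fun _ => (1 : ℂ)) := by
    funext k
    rw [c.hμ.map_one, gal_apply, map_one]
  have h2 : (fun k : ↥(K.subgroupOf L) => μ 1 (k : ↥L)) = fun _ => (1 : ℂ) := by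
    funext k
    rw [c.hμ.map_one]
  conv_rhs => rw [h1]
  rw [h2, indFun_gal]

theorem gal_theta (σ : ℂ ≃+* ℂ) {Θ₀ : G → ℂ}
    (hΘ₀ : ∀ ζ ∈ S₁, dadeIsometry A₀ L R (colSum W W₂ μ 1 - ζ) = Θ₀ - t ζ) :
    gal σ Θ₀ = Θ₀ := by
  obtain ⟨ζ, hζ⟩ := c.exists_S₁
  have h1 : Θ₀ = dadeIsometry A₀ L R (colSum W W₂ μ 1 - ζ) + t ζ := by
    rw [hΘ₀ ζ hζ, sub_add_cancel]
  have h2 : dadeIsometry A₀ L R (colSum W W₂ μ 1 - gal σ ζ) = Θ₀ - t (gal σ ζ) :=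
    hΘ₀ _ (c.S₁_gal σ ζ hζ)
  have h3 : gal σ Θ₀ = dadeIsometry A₀ L R (colSum W W₂ μ 1 - gal σ ζ) + t (gal σ ζ) := by
    conv_lhs => rw [h1]
    rw [gal_add, ← dadeIsometry_gal, gal_sub, gal_colSum_mu_one c, c.t_gal σ hζ]
  rw [h3, h2, sub_add_cancel]

/-- (11.9)(a), Galois part: `(Θ₀, η_i0)` does not depend on `i ≠ 0`. -/
theorem row_const {Θ₀ : G → ℂ} (hgen : IsGeneralizedCharacter G Θ₀)
    (hΘ₀ : ∀ ζ ∈ S₁, dadeIsometry A₀ L R (colSum W W₂ μ 1 - ζ) = Θ₀ - t ζ)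
    {φ φ' : ↥W →* ℂˣ} (hφ : φ ∈ lin₁ W W₂) (hφ' : φ' ∈ lin₁ W W₂) (h1 : φ ≠ 1) (h1' : φ' ≠ 1) :
    classInner Θ₀ (η φ) = classInner Θ₀ (η φ') := by
  obtain ⟨k, hk, hkφ, hpow⟩ := exists_pow_eq c.hD.cyclicTI c.q_prime c.card_W₁ hφ hφ' h1 h1'
  obtain ⟨σ, hσ⟩ := Cfsg.Agent.Characters.Galois.exists_ringEquiv_complex c.q_prime.ne_zero hk
  have h2 : gal σ (η φ) = η φ' := by
    rw [gal_eta c.hη c.hD.cyclicTI, galHom_eq_pow σ hσ hpow, hkφ]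
  have hη' : IsGeneralizedCharacter G (η φ) := by
    rcases c.hη.irr_or_neg φ with h | h
    · exact gen_of_irr h
    · have := gen_neg (gen_of_irr h)
      rwa [neg_neg] at this
  rw [← classInner_gal σ hgen hη', h2, gal_theta c σ hΘ₀]

end

end Cfsg.Agent.OddOrderCharacters.PF11.Row
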