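import Cfsg.Agent.OddOrderCharacters.PF11.Theta
import Cfsg.Agent.OddOrderCharacters.PF11.Data

/-!
# Peterfalvi (11.8): the image of `μ_j - u ζ`
-/

set_option autoImplicit false
set_option linter.unusedSectionVars false
set_option linter.dupNamespace false

open scoped ComplexConjugate
open Cfsg Cfsg.Agent.Characters.Core Cfsg.Agent.OddOrderCharacters.VChar
  Cfsg.Agent.OddOrderCharacters.PFDefs Cfsg.Agent.OddOrderCharacters.ColSum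
  Cfsg.Agent.OddOrderCharacters.PF4b.TIFam Cfsg.Agent.OddOrderCharacters.PF4b.Prime
  Cfsg.Agent.OddOrderCharacters.PF10.Ctx Cfsg.Agent.OddOrderCharacters.PF11.Ctx
  Cfsg.Agent.OddOrderCharacters.PF11.Theta Cfsg.Agent.OddOrderCharacters.PF11.Data

namespace Cfsg.Agent.OddOrderCharacters.PF11.TauCol

universe u

variable {G : Type u} [Group G] [Fintype G] {L K W W₁ W₂ : Subgroup G} [Fintype ↥L]
  {A A₀ : Set G} {R : G → Subgroup G}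
  {μ : (↥W →* ℂˣ) → (↥L → ℂ)} {δ : (↥W →* ℂˣ) → ℤ} {η : (↥W →* ℂˣ) → (G → ℂ)}
  {p q n u : ℕ} {S₁ S₂ : Set (↥L → ℂ)} {t : (↥L → ℂ) → (G → ℂ)}

theorem tau_colSum_sub (c : Ctx L K W W₁ W₂ A A₀ R μ δ η p q n u S₁ S₂ t) {Θ₀ Θ : G → ℂ}
    (hΘ₀ : ∀ ζ ∈ S₁, dadeIsometry A₀ L R (colSum W W₂ μ 1 - ζ) = Θ₀ - t ζ)
    (hΘ : ∀ ζ ∈ S₁, ∀ φ ∈ lin₁ W W₂, ∀ ψ ∈ lin₁ W W₁, ψ ≠ 1 →
      dadeIsometry A₀ L R (PF10.Ctx.alpha μ 1 n ζ φ ψ) = η (φ * ψ) - η φ - (n : ℤ) • t ζ + Θ)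
    {ζ : ↥L → ℂ} (hζ : ζ ∈ S₁) {ψ : ↥W →* ℂˣ} (hψ : ψ ∈ lin₁ W W₁) (hψ1 : ψ ≠ 1) :
    dadeIsometry A₀ L R (colSum W W₂ μ ψ - (u : ℤ) • ζ) =
      colSum W W₂ η ψ - colSum W W₂ η 1 - (u : ℤ) • t ζ + (q : ℤ) • Θ + Θ₀ := by
  classical
  have hcard : (linFin c.direct).card = q := by rw [card_linFin, c.card_W₁]
  have e1 : colSum W W₂ μ ψ - (u : ℤ) • ζ =
      (∑ φ ∈ linFin c.direct, PF10.Ctx.alpha μ 1 n ζ φ ψ) + (colSum W W₂ μ 1 - ζ) := by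
    rw [colSum_eq_sum c.direct, colSum_eq_sum c.direct]
    simp only [PF10.Ctx.alpha_def, Finset.sum_sub_distrib, one_smul, lin_mul_one, Finset.sum_const,
      hcard, c.u_eq]
    have e2 : ((q * n + 1 : ℕ) : ℤ) • ζ = q • ((n : ℤ) • ζ) + ζ := by
      push_cast
      rw [add_smul, mul_smul, one_smul, natCast_zsmul]
    rw [e2]
    abel
  have hcl : ∀ φ ∈ linFin c.direct, IsClassFunction ↥L (PF10.Ctx.alpha μ 1 n ζ φ ψ) :=
    fun φ _ => bridge_class c hζ φ ψ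
  have hclsum : IsClassFunction ↥L (∑ φ ∈ linFin c.direct, PF10.Ctx.alpha μ 1 n ζ φ ψ) :=
    gen_isClassFunction (gen_sum _ fun φ _ => alpha_gen c.hyp10 (c.S₁_irr ζ hζ) φ ψ)
  rw [e1, DadeBasic.dadeIsometry_add c.hD.dade hclsum (gen_isClassFunction (gen₀ c hζ)),
    dadeIsometry_sum c.hD.dade _ _ hcl, hΘ₀ ζ hζ,
    Finset.sum_congr rfl (fun φ hφ => hΘ ζ hζ φ ((mem_linFin c.direct).1 hφ) ψ hψ hψ1),
    colSum_eq_sum c.direct, colSum_eq_sum c.direct]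
  simp only [Finset.sum_add_distrib, Finset.sum_sub_distrib, lin_mul_one, Finset.sum_const, hcard,
    c.u_eq]
  have e2 : ((q * n + 1 : ℕ) : ℤ) • t ζ = q • ((n : ℤ) • t ζ) + t ζ := by
    push_cast
    rw [add_smul, mul_smul, one_smul, natCast_zsmul]
  rw [e2, natCast_zsmul Θ q]
  abel

end Cfsg.Agent.OddOrderCharacters.PF11.TauCol
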