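import Mathlib
import Cfsg.Prelude.Def_OddOrderLocal
import Cfsg.Agent.OddOrderLocal.ComplAux
import Cfsg.Agent.S1459

/-!
# Peterfalvi (11.6): consequences of `M'' = HC`, group theory

`D = H U` with `H` a nilpotent normal Hall subgroup of `D` and complement `U`.
-/

set_option autoImplicit false

open Cfsg

namespace Cfsg.Agent.OddOrderCharacters.PF11.Facts

open Subgroup
open scoped commutatorElement

variable {G : Type*} [Group G]

/-- `[D, D] ≤ H [U, U]` for `D = H U`, `U` normalising `H`. -/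
theorem commutator_le_sup {H U D : Subgroup G} (hD : ∀ d ∈ D, ∃ h ∈ H, ∃ u ∈ U, d = h * u)
    (hn : ∀ u ∈ U, ∀ h ∈ H, u * h * u⁻¹ ∈ H) : ⁅D, D⁆ ≤ H ⊔ ⁅U, U⁆ := by
  rw [commutator_le]
  intro d₁ hd₁ d₂ hd₂
  obtain ⟨h₁, hh₁, u₁, hu₁, rfl⟩ := hD d₁ hd₁
  obtain ⟨h₂, hh₂, u₂, hu₂, rfl⟩ := hD d₂ hd₂
  have e : ⁅h₁ * u₁, h₂ * u₂⁆ = (h₁ * (u₁ * h₂ * u₁⁻¹) *
      ((u₁ * u₂ * u₁⁻¹) * h₁⁻¹ * (u₁ * u₂ * u₁⁻¹)⁻¹)) * ⁅u₁, u₂⁆ * h₂⁻¹ := by
    simp only [commutatorElement_def]; group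
  rw [e]
  have ht : u₁ * u₂ * u₁⁻¹ ∈ U := U.mul_mem (U.mul_mem hu₁ hu₂) (U.inv_mem hu₁)
  have m1 : h₁ * (u₁ * h₂ * u₁⁻¹) * ((u₁ * u₂ * u₁⁻¹) * h₁⁻¹ * (u₁ * u₂ * u₁⁻¹)⁻¹) ∈ H :=
    H.mul_mem (H.mul_mem hh₁ (hn _ hu₁ _ hh₂)) (hn _ ht _ (H.inv_mem hh₁))
  exact (H ⊔ ⁅U, U⁆).mul_mem ((H ⊔ ⁅U, U⁆).mul_mem (mem_sup_left m1)
    (mem_sup_right (commutator_mem_commutator hu₁ hu₂))) (mem_sup_left (H.inv_mem hh₂))

/-- `U ∩ [D, D] = [U, U]`. -/
theorem inf_commutator_le {H U D : Subgroup G} (hD : ∀ d ∈ D, ∃ h ∈ H, ∃ u ∈ U, d = h * u)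
    (hn : ∀ u ∈ U, ∀ h ∈ H, u * h * u⁻¹ ∈ H) (hHU : H ⊓ U = ⊥) : U ⊓ ⁅D, D⁆ ≤ ⁅U, U⁆ := by
  rintro u ⟨hu, hu'⟩
  have h1 := commutator_le_sup hD hn hu'
  have hUU : ⁅U, U⁆ ≤ U := commutator_le_self U
  -- `H ⊔ [U, U] = H [U, U]`
  have h2 : ∃ h ∈ H, ∃ v ∈ ⁅U, U⁆, u = h * v := by
    have hclos : ∀ x ∈ H ⊔ ⁅U, U⁆, ∃ h ∈ H, ∃ v ∈ ⁅U, U⁆, x = h * v := by
      let K : Subgroup G :=
        { carrier := {x | ∃ h ∈ H, ∃ v ∈ ⁅U, U⁆, x = h * v}
          mul_mem' := by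
            rintro _ _ ⟨h, hh, v, hv, rfl⟩ ⟨h', hh', v', hv', rfl⟩
            exact ⟨h * (v * h' * v⁻¹), H.mul_mem hh (hn v (hUU hv) _ hh'), v * v',
              mul_mem hv hv', by group⟩
          one_mem' := ⟨1, H.one_mem, 1, one_mem _, by simp⟩
          inv_mem' := by
            rintro _ ⟨h, hh, v, hv, rfl⟩
            exact ⟨v⁻¹ * h⁻¹ * v⁻¹⁻¹, hn _ (U.inv_mem (hUU hv)) _ (H.inv_mem hh), v⁻¹,
              inv_mem hv, by group⟩ }
      have hK : H ⊔ ⁅U, U⁆ ≤ K :=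
        sup_le (fun h hh => ⟨h, hh, 1, one_mem _, by simp⟩)
          (fun v hv => ⟨1, H.one_mem, v, hv, by simp⟩)
      exact fun x hx => hK hx
    exact hclos u h1
  obtain ⟨h, hh, v, hv, rfl⟩ := h2
  have h3 : h ∈ H ⊓ U := by
    refine ⟨hh, ?_⟩
    have := U.mul_mem hu (U.inv_mem (hUU hv))
    rwa [mul_inv_cancel_right] at this
  rw [hHU, mem_bot] at h3
  rw [h3, one_mul]
  exact hv

section finite

variable [Finite G] {H U D : Subgroup G}

/-- `H = [H, U]` if `H ≤ [D, D]`. -/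
theorem eq_commutator (hc : IsComplIn H U D) (hsol : Group.IsSolvable ↥D)
    (hn : ∀ d ∈ D, ∀ h ∈ H, d * h * d⁻¹ ∈ H) (hle : H ≤ ⁅D, D⁆) : H = ⁅H, U⁆ := by
  have hHD := hc.1
  have hUD := hc.2.1
  have hnorm : (H.subgroupOf D).Normal := by
    constructor
    intro x hx d
    exact hn d d.2 x hx
  have hcD : _root_.commutator ↥D = ⁅D, D⁆.subgroupOf D := by
    have h1 : (_root_.commutator ↥D).map D.subtype = ⁅D, D⁆ := map_subtype_commutator D
    rw [← h1, subgroupOf, comap_map_eq_self_of_injective D.subtype_injective]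
  have h1 := Cfsg.Agent.S1459.eq_commutator (G := ↥D) (H.subgroupOf D) (U.subgroupOf D) hnorm
    (Cfsg.Agent.OddOrderLocal.ComplAux.isComplement'_of_isComplIn hc) (by
      rw [hcD]
      intro x hx
      exact hle hx)
  have h2 := congrArg (Subgroup.map D.subtype) h1
  rw [map_commutator, subgroupOf_map_subtype, subgroupOf_map_subtype, inf_eq_left.mpr hHD,
    inf_eq_left.mpr hUD] at h2
  exact h2

/-- `C_H(U) ≤ [H, H]` if `H = [H, U]` and the orders are coprime. -/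
theorem centralizer_le (hHD : H ≤ D) (hUD : U ≤ D) (hn : ∀ d ∈ D, ∀ h ∈ H, d * h * d⁻¹ ∈ H)
    (hcop : (Nat.card H).Coprime (Nat.card U)) (he : H = ⁅H, U⁆) :
    H ⊓ centralizer (U : Set G) ≤ ⁅H, H⁆ := by
  have hnorm : (H.subgroupOf D).Normal := by
    constructor
    intro x hx d
    exact hn d d.2 x hx
  have hm : ∀ K : Subgroup G, K ≤ D → (K.subgroupOf D).map D.subtype = K := fun K hK => by
    rw [subgroupOf_map_subtype, inf_eq_left.mpr hK]
  have h1 := Cfsg.Agent.S1459.centralizer_le (G := ↥D) (H.subgroupOf D) (U.subgroupOf D) hnorm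
    (by rwa [Nat.card_congr (subgroupOfEquivOfLe hHD).toEquiv,
      Nat.card_congr (subgroupOfEquivOfLe hUD).toEquiv]) (by
      have h2 : (⁅H.subgroupOf D, U.subgroupOf D⁆).map D.subtype = (H.subgroupOf D).map D.subtype := by
        rw [map_commutator, hm H hHD, hm U hUD, ← he]
      exact (map_injective D.subtype_injective h2).symm)
  intro x hx
  have hxD : x ∈ D := hHD hx.1
  have h3 : (⟨x, hxD⟩ : ↥D) ∈ H.subgroupOf D ⊓ centralizer ((U.subgroupOf D : Subgroup ↥D) : Set ↥D) := by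
    refine ⟨hx.1, mem_centralizer_iff.mpr ?_⟩
    intro y hy
    have := mem_centralizer_iff.mp hx.2 (y : G) hy
    exact Subtype.ext this
  have h4 := mem_map_of_mem D.subtype (h1 h3)
  rw [map_commutator, hm H hHD] at h4
  exact h4

/-- A subgroup centralised by `U` and normalised by `H = [H, U]` is centralised by `H`. -/
theorem commutator_eq_bot {N : Subgroup G} (he : H = ⁅H, U⁆) (hU : U ≤ centralizer (N : Set G))
    (hN : ∀ h ∈ H, ∀ x ∈ N, h * x * h⁻¹ ∈ N) : ⁅H, N⁆ = ⊥ := by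
  have h1 : ⁅U, N⁆ = ⊥ := commutator_eq_bot_iff_le_centralizer.mpr hU
  have h2 : ⁅N, H⁆ ≤ N := by
    rw [commutator_le]
    intro x hx h hh
    rw [commutatorElement_def]
    have := N.mul_mem hx (hN h hh x⁻¹ (N.inv_mem hx))
    rwa [← mul_assoc, ← mul_assoc] at this
  have h3 : ⁅⁅N, H⁆, U⁆ = ⊥ := by
    rw [eq_bot_iff, ← h1, commutator_comm U N]
    exact commutator_mono h2 le_rfl
  have h4 : ⁅⁅U, N⁆, H⁆ = ⊥ := by rw [h1, commutator_bot_left]
  have h5 := commutator_commutator_eq_bot_of_rotate h4 h3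
  rwa [← he] at h5

end finite

/-- If `H/Z(H)` is a `p`-group, the derived subgroup is a `p`-group; if moreover `H/[H,H]` is a
`p`-group then so is `H`. -/
theorem isPGroup_of_pow_mem {H : Type*} [Group H] [Finite H] {p : ℕ} [Fact p.Prime]
    (hc : _root_.commutator H ≤ center H) (hp : ∀ x : H, x ^ p ∈ _root_.commutator H) :
    IsPGroup p H := by
  -- the quotient by the centre is a `p`-group
  have h1 : IsPGroup p (H ⧸ center H) := by
    intro x
    obtain ⟨y, rfl⟩ := QuotientGroup.mk_surjective x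
    refine ⟨1, ?_⟩
    rw [pow_one, ← QuotientGroup.mk_pow, QuotientGroup.eq_one_iff]
    exact hc (hp y)
  obtain ⟨k, hk⟩ := IsPGroup.iff_card.mp h1
  have h2 : ∀ x ∈ _root_.commutator H, x ^ p ^ k = 1 := by
    intro x hx
    have hker : _root_.commutator H ≤ (MonoidHom.transferCenterPow H).ker := by
      rw [_root_.commutator_def, commutator_le]
      intro a _ b _
      rw [MonoidHom.mem_ker, map_commutatorElement, commutatorElement_eq_one_iff_mul_comm]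
      exact Subtype.ext (mem_center_iff.mp ((MonoidHom.transferCenterPow H) b).2 _)
    have h3 := MonoidHom.mem_ker.mp (hker hx)
    have h4 : x ^ (center H).index = 1 := by
      rw [← MonoidHom.transferCenterPow_apply, h3]
      rfl
    have h5 : (center H).index = p ^ k := hk
    rw [h5] at h4
    exact h4
  intro x
  refine ⟨1 + k, ?_⟩
  rw [pow_add, pow_one, pow_mul]
  exact h2 _ (hp x)

end Cfsg.Agent.OddOrderCharacters.PF11.Facts
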