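import Mathlib
import Cfsg.Agent.OddOrderCharacters.PF11.Noncoherence
import Cfsg.Agent.OddOrderCharacters.PF11.Facts
import Cfsg.Agent.OddOrderLocal.TypeP

/-!
# Peterfalvi (11.6)
-/

set_option autoImplicit false

open Cfsg Cfsg.Agent.OddOrderCharacters.PFDefs Cfsg.Agent.OddOrderCharacters.PF11.Defs

namespace Cfsg.Agent.OddOrderCharacters.PF11.Six

open Subgroup
open scoped commutatorElement

universe u

variable {G : Type u} [Group G] {M U W₁ W₂ H₀ : Subgroup G} {p q : ℕ}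

/-- `H = [H, U]`. -/
theorem eq_commutator (h : Hyp M U W₁ W₂ H₀ p q)
    (h5 : ⁅⁅M, M⁆, ⁅M, M⁆⁆ = fittingHallOf M ⊔ cent M U) :
    fittingHallOf M = ⁅fittingHallOf M, U⁆ := by
  have := h.finite
  have := h.solvable
  have hsol : Group.IsSolvable ↥⁅M, M⁆ := by
    have e := (subgroupOfEquivOfLe (Noncoherence.derived_le M)).symm
    exact solvable_of_solvable_injective (f := e.toMonoidHom) e.injective
  refine Facts.eq_commutator h.typeP.U_compl hsol ?_ ?_
  · intro d hd x hx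
    exact TypeSetsBasic.fittingHallOf_conj_mem (Noncoherence.derived_le M hd) hx
  · rw [h5]; exact le_sup_left

/-- `H₀ = H'`. -/
theorem H₀_eq (h : Hyp M U W₁ W₂ H₀ p q)
    (h5 : ⁅⁅M, M⁆, ⁅M, M⁆⁆ = fittingHallOf M ⊔ cent M U) :
    H₀ = ⁅fittingHallOf M, fittingHallOf M⁆ := by
  have := h.finite
  refine le_antisymm ?_ (Basic.commutator_le_H₀ h)
  have h1 := Facts.centralizer_le (D := ⁅M, M⁆) h.typeP.U_compl.1 h.typeP.U_compl.2.1
    (fun d hd x hx => TypeSetsBasic.fittingHallOf_conj_mem (Noncoherence.derived_le M hd) hx)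
    (Basic.coprime_HU h) (eq_commutator h h5)
  refine le_trans (le_inf h.H₀_le ?_) h1
  rw [← le_centralizer_iff]
  exact Basic.U_le_centralizer h

/-- `[H, H₀] = 1`. -/
theorem commutator_H₀ (h : Hyp M U W₁ W₂ H₀ p q)
    (h5 : ⁅⁅M, M⁆, ⁅M, M⁆⁆ = fittingHallOf M ⊔ cent M U) :
    ⁅fittingHallOf M, H₀⁆ = ⊥ := by
  have := h.finite
  refine Facts.commutator_eq_bot (eq_commutator h h5) (Basic.U_le_centralizer h) ?_
  intro x hx y hy
  exact h.H₀_normal x (h.typeP.U_compl.1.trans (Noncoherence.derived_le M) hx) y hy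

theorem map_commutator_fittingHallOf (K : Subgroup G) :
    (_root_.commutator ↥K).map K.subtype = ⁅K, K⁆ := map_subtype_commutator K

theorem mem_commutator_iff (K : Subgroup G) (x : ↥K) :
    x ∈ _root_.commutator ↥K ↔ (x : G) ∈ ⁅K, K⁆ := by
  rw [← map_commutator_fittingHallOf K]
  constructor
  · intro hx; exact mem_map_of_mem K.subtype hx
  · rintro ⟨y, hy, hyx⟩
    have : y = x := Subtype.ext hyx
    rwa [← this]

/-- `[H, H] ≤ Z(H)`. -/
theorem commutator_le_center (h : Hyp M U W₁ W₂ H₀ p q)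
    (h5 : ⁅⁅M, M⁆, ⁅M, M⁆⁆ = fittingHallOf M ⊔ cent M U) :
    _root_.commutator ↥(fittingHallOf M) ≤ center ↥(fittingHallOf M) := by
  intro x hx
  rw [mem_commutator_iff, ← H₀_eq h h5] at hx
  rw [mem_center_iff]
  intro y
  have h1 := commutator_H₀ h h5
  rw [commutator_eq_bot_iff_le_centralizer] at h1
  have h2 := mem_centralizer_iff.mp (h1 y.2) (x : G) hx
  exact Subtype.ext h2.symm

theorem pow_mem_commutator (h : Hyp M U W₁ W₂ H₀ p q)
    (h5 : ⁅⁅M, M⁆, ⁅M, M⁆⁆ = fittingHallOf M ⊔ cent M U) (x : ↥(fittingHallOf M)) :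
    x ^ p ∈ _root_.commutator ↥(fittingHallOf M) := by
  rw [mem_commutator_iff, ← H₀_eq h h5]
  exact Basic.pow_mem_H₀ h _ x.2

/-- Peterfalvi (11.6). -/
theorem FTtype34_facts (h : Hyp M U W₁ W₂ H₀ p q)
    (h5 : ⁅⁅M, M⁆, ⁅M, M⁆⁆ = fittingHallOf M ⊔ cent M U) :
    IsPGroup p (fittingHallOf M) ∧ H₀ = ⁅fittingHallOf M, fittingHallOf M⁆ ∧
      cent M U = ⁅U, U⁆ := by
  have := h.finite
  have : Fact p.Prime := ⟨h.p_prime⟩
  refine ⟨?_, H₀_eq h h5, ?_⟩
  · exact Facts.isPGroup_of_pow_mem (commutator_le_center h h5) (pow_mem_commutator h h5)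
  · apply le_antisymm _ (Basic.commutator_U_le h)
    have h1 := Facts.inf_commutator_le (D := ⁅M, M⁆) h.typeP.U_compl.2.2.2
      (fun u hu x hx => TypeSetsBasic.fittingHallOf_conj_mem
        (Noncoherence.derived_le M (h.typeP.U_compl.2.1 hu)) hx) h.typeP.U_compl.2.2.1
    refine le_trans (le_inf (Noncoherence.cent_le_U M U) ?_) h1
    rw [h5]; exact le_sup_right

end Cfsg.Agent.OddOrderCharacters.PF11.Six
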