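import Cfsg.Agent.OddOrderCharacters.PF11.Eight
import Cfsg.Agent.OddOrderCharacters.PF11.SOne
import Cfsg.Agent.OddOrderCharacters.PF11.Der2
import Cfsg.Agent.OddOrderCharacters.PF11.Six
import Cfsg.Agent.OddOrderCharacters.PF11.Kernel
import Cfsg.Agent.OddOrderCharacters.PF11.GalCase
import Cfsg.Agent.OddOrderCharacters.PF11.MakeCtx
import Cfsg.Agent.OddOrderCharacters.PF11.NonGal

/-!
# Peterfalvi (11.3)–(11.9), from the hypothesis and the noncoherence of `S(1)`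
-/

set_option autoImplicit false
set_option linter.unusedSectionVars false

open scoped ComplexConjugate
open Cfsg Cfsg.Agent.Characters.Core Cfsg.Agent.OddOrderCharacters.VChar
  Cfsg.Agent.OddOrderCharacters.PFDefs Cfsg.Agent.OddOrderCharacters.ColSum
  Cfsg.Agent.OddOrderCharacters.PF11.Defs Cfsg.Agent.OddOrderCharacters.PF11.SDefs
  Cfsg.Agent.OddOrderCharacters.PF11.Ctx

namespace Cfsg.Agent.OddOrderCharacters.PF11.Env

universe u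

variable {G : Type u} [Group G] [Fintype G] {M U W₁ W₂ H₀ : Subgroup G} {p q : ℕ} [Fintype ↥M]
  {W : Subgroup G} {A A₀ : Set G} {R : G → Subgroup G}
  {μ : (↥W →* ℂˣ) → (↥M → ℂ)} {δ : (↥W →* ℂˣ) → ℤ} {η : (↥W →* ℂˣ) → (G → ℂ)}

theorem above_bot_eq (M : Subgroup G) [Fintype ↥M] :
    seqIndOf M ⁅M, M⁆ ⁅M, M⁆ ⊥ = inducedIrrAbove (⁅M, M⁆.subgroupOf M) ⊥ := by
  have h1 : (⊥ : Subgroup G).subgroupOf M = ⊥ := by
    rw [Subgroup.bot_subgroupOf]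
  show seqIndD _ _ ((⊥ : Subgroup G).subgroupOf M) = _
  rw [h1]
  exact SOne.seqInd_eq_above _ _

/-- The results of section 11. -/
structure Results (M U W W₁ W₂ H₀ : Subgroup G) [Fintype ↥M] (A₀ : Set G) (R : G → Subgroup G)
    (μ : (↥W →* ℂˣ) → (↥M → ℂ)) (η : (↥W →* ℂˣ) → (G → ℂ)) (p q : ℕ) : Prop where
  lt : p < q
  der2 : ⁅⁅M, M⁆, ⁅M, M⁆⁆ = fittingHallOf M ⊔ cent M U
  elem : IsElementaryAbelian p (fittingHallOf M)
  card_H : Nat.card (fittingHallOf M) = p ^ q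
  H₀_eq : H₀ = ⊥
  C_eq : cent M U = ⁅U, U⁆
  galois : PF9.Defs.Galois ((fittingHallOf M).subgroupOf M) (U.subgroupOf M) (H₀.subgroupOf M)
  U_cyclic : IsCyclic ↥U
  /-- (11.9)(a) -/
  row : ∀ ζ ∈ S₁ M U, ∀ φ ∈ lin₁ W W₂, ∀ ψ ∈ lin₁ W W₁,
    (φ = 1 → classInner (dadeIsometry A₀ M R (colSum W W₂ μ 1 - ζ)) (η (φ * ψ)) = 1) ∧
      (φ ≠ 1 → classInner (dadeIsometry A₀ M R (colSum W W₂ μ 1 - ζ)) (η (φ * ψ)) = 0)

theorem results (h : Hyp M U W₁ W₂ H₀ p q)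
    (hD : PrimeDadeHyp M ⁅M, M⁆ ⁅M, M⁆ A A₀ W W₁ W₂ R)
    (hμ : PrimeTIFam M ⁅M, M⁆ W W₁ W₂ μ δ) (hη : CyclicTIFam W W₁ W₂ η)
    (h8 : ¬ IsCoherent (inducedIrrAbove (⁅M, M⁆.subgroupOf M) ⊥) {1}ᶜ (dadeIsometry A₀ M R))
    (h911 : IsCoherent (S₂ M U H₀) {1}ᶜ (dadeIsometry A₀ M R)) :
    Results M U W W₁ W₂ H₀ A₀ R μ η p q := by
  obtain ⟨t, c⟩ := MakeCtx.exists_ctx h hD hμ hη
  -- the coherence system on `S(1)`
  obtain ⟨ζ₀, hζ₀⟩ := c.exists_S₁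
  obtain ⟨Rf, hS, -, -⟩ := PF4b.Subcoherent.prDade_subcoherent hD hμ hη c.oddL
    (S := seqIndOf M ⁅M, M⁆ ⁅M, M⁆ ⊥) (fun _ h => h) ⟨ζ₀, c.S₁_sub hζ₀⟩
    (fun χ hχ => PF4b.Subcoherent.conjFun_mem hχ)
  rw [above_bot_eq] at hS
  have h5 := Der2.FTtype34_der2 h _ Rf hS h8
  obtain ⟨-, -, hC⟩ := Six.FTtype34_facts h h5
  obtain ⟨hel, hcard, hH₀⟩ := Kernel.FTtype34_Fcore_kernel_trivial h h5
  have hncoh : ¬ IsCoherent (S₁ M U ∪ S₂ M U H₀) {1}ᶜ (dadeIsometry A₀ M R) := by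
    rw [SOne.union_eq h]
    have h1 := Noncoherence.FTtype34_noncoherence h _ Rf hS h8
    rwa [← SOne.seqInd_eq_above] at h1
  obtain ⟨Θ₀, hg₀, hΘ₀⟩ := Data.exists_theta₀ c
  obtain ⟨Θ, hg, hΘ⟩ := Theta.exists_theta c
  obtain ⟨hlt, hrow, hrow0⟩ := Eight.row_structure c h911 hncoh hg₀ hg hΘ₀ hΘ
  have hgal : PF9.Defs.Galois ((fittingHallOf M).subgroupOf M) (U.subgroupOf M)
      (H₀.subgroupOf M) := by
    by_contra hng
    obtain ⟨lam, a, b, hlam, hirr, ha, hba, ha1, hap, -⟩ := NonGal.nonGalois_data h hC hng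
    exact Eight.nonGalois_false c h911 hncoh hlam hirr ha hba ha1 hap
  exact
    { lt := hlt
      der2 := h5
      elem := hel
      card_H := hcard
      H₀_eq := hH₀
      C_eq := hC
      galois := hgal
      U_cyclic := GalCase.U_cyclic h hC hgal
      row := fun ζ hζ φ hφ ψ hψ => by
        rw [← Data.inner₀_eta c hΘ₀ hζ]
        constructor
        · rintro rfl
          rw [lin_one_mul]
          exact hrow ψ hψ
        · intro hne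
          exact hrow0 φ hφ hne ψ hψ }

theorem commutator_U_eq_bot [IsMulCommutative U] : ⁅U, U⁆ = ⊥ := by
  rw [Subgroup.eq_bot_iff_forall]
  intro x hx
  have h1 : ⁅U, U⁆ ≤ ⊥ := by
    rw [Subgroup.commutator_le]
    intro a ha b hb
    have h2 : (⟨a, ha⟩ : ↥U) * ⟨b, hb⟩ = ⟨b, hb⟩ * ⟨a, ha⟩ := mul_comm' _ _
    have h3 : a * b = b * a := congrArg Subtype.val h2
    rw [Subgroup.mem_bot, commutatorElement_eq_one_iff_mul_comm]
    exact h3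
  exact Subgroup.mem_bot.1 (h1 hx)

/-- `C_U(H) = 1` -/
theorem Results.cent_eq_bot (r : Results M U W W₁ W₂ H₀ A₀ R μ η p q) : cent M U = ⊥ := by
  have := r.U_cyclic
  have h1 : IsMulCommutative U := by
    refine ⟨⟨fun x y => ?_⟩⟩
    letI := IsCyclic.commGroup (α := ↥U)
    exact mul_comm x y
  rw [r.C_eq, commutator_U_eq_bot]

/-- `M'' = H` -/
theorem Results.der2_eq (r : Results M U W W₁ W₂ H₀ A₀ R μ η p q) :
    ⁅⁅M, M⁆, ⁅M, M⁆⁆ = fittingHallOf M := by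
  rw [r.der2, r.cent_eq_bot, sup_bot_eq]

end Cfsg.Agent.OddOrderCharacters.PF11.Env
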