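import Mathlib
import Cfsg.Agent.Transfer.Extraspecial

/-!
# The group-theoretic core of Peterfalvi (11.7)

`H` is a nilpotent normal subgroup of `L`, `H₀ = [H, H]` is centralised by `U`, `H / H₀` is elementary
abelian of order `p ^ q` with `q` odd, and either `U` is irreducible on `H / H₀` or `H / H₀` is the product
of the `W₁`-conjugates of a `U`-invariant line.  If `C_{H/H₀}(U) = 1` then `H₀ = 1`.
-/

set_option autoImplicit false

namespace Cfsg.Agent.OddOrderCharacters.PF11.Seven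

open Subgroup
open scoped commutatorElement
open Cfsg.Agent.Transfer.CentralComm

universe u

variable {L : Type u} [Group L]

/-- A residue `c` with `c ^ 2 = 1` and `c ^ n = 1`, `n` odd, is `1`. -/
theorem eq_one_of_sq {R : Type*} [Monoid R] {c : R} {n : ℕ} (hn : Odd n) (h2 : c ^ 2 = 1)
    (h : c ^ n = 1) : c = 1 := by
  obtain ⟨k, rfl⟩ := hn
  rw [pow_succ, pow_mul, h2, one_pow, one_mul] at h
  exact h

theorem comm_central_left {P : Type*} [Group P] {z : P} (hz : z ∈ center P) (b : P) :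
    ⁅z, b⁆ = 1 := by
  rw [commutatorElement_eq_one_iff_mul_comm]
  exact (mem_center_iff.1 hz b).symm

theorem comm_central_right {P : Type*} [Group P] {z : P} (hz : z ∈ center P) (b : P) :
    ⁅b, z⁆ = 1 := by
  rw [commutatorElement_eq_one_iff_mul_comm]
  exact (mem_center_iff.1 hz b)

theorem comm_pow_central {P : Type*} [Group P] (hc : ∀ a b : P, ⁅a, b⁆ ∈ center P) {a b z z' : P}
    (hz : z ∈ center P) (hz' : z' ∈ center P) (k l : ℕ) :
    ⁅a ^ k * z, b ^ l * z'⁆ = ⁅a, b⁆ ^ (k * l) := by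
  rw [comm_mul_left hc, comm_central_left hz, mul_one, comm_mul_right hc, comm_central_right hz',
    mul_one, comm_pow_right hc, comm_pow_left hc, ← pow_mul]

section pairing

variable (H U H₀ N : Subgroup L) (p : ℕ)

/-- `N` is normal in `H`. -/
theorem normal_N (hN : N ≤ H₀)
    (hN1 : ∀ x ∈ H, ∀ y ∈ H₀, x * y * x⁻¹ * y⁻¹ ∈ N) : (N.subgroupOf H).Normal := by
  constructor
  intro n hn g
  rw [mem_subgroupOf] at hn ⊢
  have h1 := hN1 g g.2 n (hN hn)
  have h2 := N.mul_mem h1 hn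
  simpa using h2

/-- The commutator pairing modulo `N` is invariant under `U`. -/
theorem pairing_inv [hp : Fact p.Prime] (hle : H₀ ≤ H) (hcomm : ⁅H, H⁆ = H₀)
    (hpow : ∀ x ∈ H, x ^ p ∈ H₀)
    (hcent : ∀ x ∈ U, ∀ y ∈ H₀, x * y = y * x)
    (hN : N ≤ H₀) (hN1 : ∀ x ∈ H, ∀ y ∈ H₀, x * y * x⁻¹ * y⁻¹ ∈ N)
    {a b x z z' : L} (ha : a ∈ H) (hb : b ∈ H) (hx : x ∈ U) (hz : z ∈ H₀) (hz' : z' ∈ H₀)
    {k l : ℕ} (hxa : x * a * x⁻¹ = a ^ k * z) (hxb : x * b * x⁻¹ = b ^ l * z')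
    (hab : ⁅a, b⁆ ∉ N) : ((k : ZMod p) * (l : ZMod p)) = 1 := by
  have hnorm := normal_N H H₀ N hN hN1
  let P := ↥H ⧸ N.subgroupOf H
  let ρ : ↥H →* P := QuotientGroup.mk' (N.subgroupOf H)
  have hρ : ∀ y : ↥H, ρ y = 1 ↔ (y : L) ∈ N := fun y => by
    rw [← mem_subgroupOf]; exact QuotientGroup.eq_one_iff y
  have hcen : ∀ y : ↥H, (y : L) ∈ H₀ → ρ y ∈ center P := by
    intro y hy
    rw [mem_center_iff]
    intro g
    obtain ⟨g, rfl⟩ := QuotientGroup.mk'_surjective _ g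
    have h1 : ρ (g * y * g⁻¹ * y⁻¹) = 1 := (hρ _).2 (hN1 g g.2 y hy)
    rw [map_mul, map_mul, map_mul, map_inv, map_inv] at h1
    exact mul_inv_eq_iff_eq_mul.1 (mul_inv_eq_one.1 h1)
  have hc : ∀ a b : P, ⁅a, b⁆ ∈ center P := by
    intro a b
    obtain ⟨a, rfl⟩ := QuotientGroup.mk'_surjective _ a
    obtain ⟨b, rfl⟩ := QuotientGroup.mk'_surjective _ b
    have h1 : ⁅(QuotientGroup.mk' (N.subgroupOf H)) a, (QuotientGroup.mk' (N.subgroupOf H)) b⁆ =
      ρ ⁅a, b⁆ := (map_commutatorElement ρ a b).symm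
    rw [h1]
    refine hcen _ ?_
    rw [← hcomm]
    exact commutator_mem_commutator a.2 b.2
  let A : ↥H := ⟨a, ha⟩
  let B : ↥H := ⟨b, hb⟩
  let Z : ↥H := ⟨z, hle hz⟩
  let Z' : ↥H := ⟨z', hle hz'⟩
  have h0 : ⁅a, b⁆ ∈ H₀ := by
    rw [← hcomm]
    exact commutator_mem_commutator ha hb
  have e1 : ⁅x * a * x⁻¹, x * b * x⁻¹⁆ = ⁅a, b⁆ := by
    have h1 : ⁅x * a * x⁻¹, x * b * x⁻¹⁆ = x * ⁅a, b⁆ * x⁻¹ := by
      simp only [commutatorElement_def]
      group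
    rw [h1, hcent x hx _ h0]
    group
  have e2 : ⁅A ^ k * Z, B ^ l * Z'⁆ = ⁅A, B⁆ := by
    apply Subtype.ext
    have h1 : ((⁅A ^ k * Z, B ^ l * Z'⁆ : ↥H) : L) = ⁅a ^ k * z, b ^ l * z'⁆ := rfl
    have h2 : ((⁅A, B⁆ : ↥H) : L) = ⁅a, b⁆ := rfl
    rw [h1, h2, ← hxa, ← hxb, e1]
  have e3 : ⁅ρ A, ρ B⁆ ^ (k * l) = ⁅ρ A, ρ B⁆ := by
    rw [← comm_pow_central hc (hcen Z hz) (hcen Z' hz') k l, ← map_pow, ← map_pow, ← map_mul,
      ← map_mul, ← map_commutatorElement, ← map_commutatorElement, e2]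
  have hne : ⁅ρ A, ρ B⁆ ≠ 1 := by
    rw [← map_commutatorElement]
    intro h
    exact hab ((hρ _).1 h)
  have hpp : ⁅ρ A, ρ B⁆ ^ p = 1 := by
    rw [← comm_pow_left hc, ← map_pow]
    exact comm_central_left (hcen _ (hpow a ha)) _
  have hord : orderOf ⁅ρ A, ρ B⁆ = p := orderOf_eq_prime hpp hne
  have h5 : ⁅ρ A, ρ B⁆ ^ (k * l) = ⁅ρ A, ρ B⁆ ^ 1 := by rw [e3, pow_one]
  rw [pow_inj_mod, hord] at h5
  have h6 : ((k * l : ℕ) : ZMod p) = ((1 : ℕ) : ZMod p) := by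
    rw [ZMod.natCast_eq_natCast_iff]
    exact h5
  rw [Nat.cast_mul, Nat.cast_one] at h6
  exact h6

end pairing

/-- The case where `H / H₀` is generated by the `W₁`-conjugates of a `U`-invariant line. -/
theorem core_line [Finite L] (H U W₁ H₀ N H₁ : Subgroup L) (p q : ℕ) [hp : Fact p.Prime]
    (hq : Odd q) (hH : H.Normal) (hH₀ : H₀.Normal) (hle : H₀ ≤ H) (hcomm : ⁅H, H⁆ = H₀)
    (hpow : ∀ x ∈ H, x ^ p ∈ H₀)
    (hcent : ∀ x ∈ U, ∀ y ∈ H₀, x * y = y * x)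
    (hWU : ∀ w ∈ W₁, ∀ x ∈ U, w * x * w⁻¹ ∈ U)
    (hWq : ∀ w ∈ W₁, w ^ q = 1)
    (hUodd : Odd (Nat.card U))
    (hfixed : ∀ h ∈ H, (∀ x ∈ U, x * h * x⁻¹ * h⁻¹ ∈ H₀) → h ∈ H₀)
    (h1 : H₁ ≤ H) (hidx : H₀.relIndex H₁ = p)
    (hn1 : ∀ x ∈ U, ∀ h ∈ H₁, x * h * x⁻¹ ∈ H₁)
    (hsup : (⨆ w ∈ W₁, H₁.map (MulAut.conj w).toMonoidHom) = H)
    (hN : N ≤ H₀) (hN1 : ∀ x ∈ H, ∀ y ∈ H₀, x * y * x⁻¹ * y⁻¹ ∈ N) (hNne : N ≠ H₀) : False := by
  classical
  -- a generator of `H₁ / H₀`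
  have hp1 : 1 < p := hp.out.one_lt
  obtain ⟨h, hh1, hh0⟩ : ∃ h ∈ H₁, h ∉ H₀ := by
    by_contra hcon
    push Not at hcon
    have : H₀.relIndex H₁ = 1 := Subgroup.relIndex_eq_one.2 hcon
    omega
  have hhH : h ∈ H := h1 hh1
  -- the quotient by `H₀`
  let π : L →* L ⧸ H₀ := QuotientGroup.mk' H₀
  have hπ : ∀ x : L, π x = 1 ↔ x ∈ H₀ := fun x => QuotientGroup.eq_one_iff x
  have hord : orderOf (π h) = p := by
    refine orderOf_eq_prime ?_ (fun hc => hh0 ((hπ h).1 hc))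
    rw [← map_pow, hπ]
    exact hpow h hhH
  -- every element of `H₁` is a power of `h` modulo `H₀`
  have hcard : Nat.card (H₁.map π) = p := by
    rw [← Subgroup.relIndex_ker, QuotientGroup.ker_mk', hidx]
  have hz : Subgroup.zpowers (π h) = H₁.map π := by
    refine Subgroup.eq_of_le_of_card_ge (zpowers_le.2 ⟨h, hh1, rfl⟩) ?_
    rw [hcard, Nat.card_zpowers, hord]
  have hgen : ∀ y ∈ H₁, ∃ c : ℕ, π y = π h ^ c := by
    intro y hy
    have h2 : π y ∈ Subgroup.zpowers (π h) := by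
      rw [hz]; exact ⟨y, hy, rfl⟩
    obtain ⟨c, hc⟩ := (mem_powers_iff_mem_zpowers).2 h2
    exact ⟨c, hc.symm⟩
  have hpowinj : ∀ k l : ℕ, π h ^ k = π h ^ l → (k : ZMod p) = l := by
    intro k l hkl
    rw [pow_inj_mod, hord] at hkl
    rw [ZMod.natCast_eq_natCast_iff]
    exact hkl
  -- the character `c` of `U` on `H₁ / H₀`
  have hex : ∀ x : L, ∃ c : ℕ, x ∈ U → π (x * h * x⁻¹) = π h ^ c := by
    intro x
    by_cases hx : x ∈ U
    · obtain ⟨c, hc⟩ := hgen _ (hn1 x hx h hh1)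
      exact ⟨c, fun _ => hc⟩
    · exact ⟨0, fun h => absurd h hx⟩
  choose c hc using hex
  have hcmul : ∀ x ∈ U, ∀ y ∈ U, (c (x * y) : ZMod p) = c x * c y := by
    intro x hx y hy
    rw [← Nat.cast_mul]
    refine hpowinj _ _ ?_
    rw [← hc _ (U.mul_mem hx hy)]
    have e1 : x * y * h * (x * y)⁻¹ = x * (y * h * y⁻¹) * x⁻¹ := by group
    rw [e1, map_mul, map_mul, hc y hy, map_inv, pow_mul, ← hc x hx, map_mul, map_mul, map_inv,
      conj_pow]
  have hc1 : (c 1 : ZMod p) = 1 := by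
    rw [← Nat.cast_one (R := ZMod p)]
    refine hpowinj _ _ ?_
    rw [← hc 1 U.one_mem]
    simp
  have hcpow : ∀ x ∈ U, ∀ n : ℕ, (c (x ^ n) : ZMod p) = (c x : ZMod p) ^ n := by
    intro x hx n
    induction n with
    | zero => simpa using hc1
    | succ n ih => rw [pow_succ, hcmul _ (U.pow_mem hx n) _ hx, ih, pow_succ]
  -- two conjugates of `h` that do not commute modulo `N`
  have hnorm := normal_N H H₀ N hN hN1
  obtain ⟨w, hw, w', hw', hww⟩ : ∃ w ∈ W₁, ∃ w' ∈ W₁, ⁅w * h * w⁻¹, w' * h * w'⁻¹⁆ ∉ N := by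
    by_contra hcon
    push Not at hcon
    -- all elements of `H` commute modulo `N`
    let P := ↥H ⧸ N.subgroupOf H
    let ρ : ↥H →* P := QuotientGroup.mk' (N.subgroupOf H)
    have hρ : ∀ y : ↥H, ρ y = 1 ↔ (y : L) ∈ N := fun y => by
      rw [← mem_subgroupOf]; exact QuotientGroup.eq_one_iff y
    let C : ↥H → Subgroup L := fun a => ((Subgroup.centralizer {ρ a}).comap ρ).map H.subtype
    have hC : ∀ (a y : ↥H), (y : L) ∈ C a ↔ (⁅(a : L), (y : L)⁆ : L) ∈ N := by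
      intro a y
      have e1 : (⁅(a : L), (y : L)⁆ : L) = ((⁅a, y⁆ : ↥H) : L) := rfl
      rw [e1, ← hρ, map_commutatorElement, commutatorElement_eq_one_iff_mul_comm]
      constructor
      · rintro ⟨z, hz1, hz2⟩
        have : z = y := Subtype.ext hz2
        subst this
        have h3 : ρ z ∈ Subgroup.centralizer {ρ a} := hz1
        rw [Subgroup.mem_centralizer_singleton_iff] at h3
        exact h3.symm
      · intro h3
        refine ⟨y, ?_, rfl⟩
        show ρ y ∈ Subgroup.centralizer {ρ a}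
        rw [Subgroup.mem_centralizer_singleton_iff]
        exact h3.symm
    have hconjH : ∀ v : L, v * h * v⁻¹ ∈ H := fun v => hH.conj_mem h hhH v
    -- a subgroup `C a` containing all conjugates of `h` contains `H`
    have hfull : ∀ a : ↥H, (∀ v ∈ W₁, v * h * v⁻¹ ∈ C a) → H ≤ C a := by
      intro a ha
      have h0 : ∀ y ∈ H₀, y ∈ C a := by
        intro y hy
        refine (hC a ⟨y, hle hy⟩).2 ?_
        have := hN1 a a.2 y hy
        rwa [← commutatorElement_def] at this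
      rw [← hsup]
      refine iSup₂_le (fun v hv => ?_)
      rintro _ ⟨y, hy, rfl⟩
      obtain ⟨k, hk⟩ := hgen y hy
      have hz0 : (h ^ k)⁻¹ * y ∈ H₀ := by
        rw [← hπ, map_mul, map_inv, map_pow, hk, inv_mul_cancel]
      have e1 : (MulAut.conj v).toMonoidHom y = (v * h * v⁻¹) ^ k * (v * ((h ^ k)⁻¹ * y) * v⁻¹) := by
        rw [conj_pow]
        simp only [MulEquiv.coe_toMonoidHom, MulAut.conj_apply]
        group
      rw [e1]
      exact (C a).mul_mem ((C a).pow_mem (ha v hv) k) (h0 _ (hH₀.conj_mem _ hz0 v))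
    have hstep1 : ∀ v ∈ W₁, ∀ y : ↥H, (⁅v * h * v⁻¹, (y : L)⁆ : L) ∈ N := by
      intro v hv y
      have h2 := hfull ⟨v * h * v⁻¹, hconjH v⟩ (fun v' hv' =>
        (hC ⟨v * h * v⁻¹, hconjH v⟩ ⟨v' * h * v'⁻¹, hconjH v'⟩).2 (hcon v hv v' hv')) y.2
      exact (hC ⟨v * h * v⁻¹, hconjH v⟩ y).1 h2
    have hstep2 : ∀ a y : ↥H, (⁅(a : L), (y : L)⁆ : L) ∈ N := by
      intro a y
      refine (hC a y).1 (hfull a (fun v hv => ?_) y.2)
      refine (hC a ⟨v * h * v⁻¹, hconjH v⟩).2 ?_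
      have h2 := hstep1 v hv a
      rw [← commutatorElement_inv]
      exact N.inv_mem h2
    refine hNne (le_antisymm hN ?_)
    rw [← hcomm, Subgroup.commutator_le]
    intro a ha y hy
    exact hstep2 ⟨a, ha⟩ ⟨y, hy⟩
  -- the relation
  have hrel : ∀ x ∈ U, (c (w⁻¹ * x * w) : ZMod p) * c (w'⁻¹ * x * w') = 1 := by
    intro x hx
    have hwx : ∀ v ∈ W₁, v⁻¹ * x * v ∈ U := fun v hv => by
      have := hWU v⁻¹ (W₁.inv_mem hv) x hx
      simpa using this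
    have hconj : ∀ v ∈ W₁, ∃ z ∈ H₀, x * (v * h * v⁻¹) * x⁻¹ =
        (v * h * v⁻¹) ^ (c (v⁻¹ * x * v)) * z := by
      intro v hv
      refine ⟨((v * h * v⁻¹) ^ (c (v⁻¹ * x * v)))⁻¹ * (x * (v * h * v⁻¹) * x⁻¹), ?_, by group⟩
      rw [← hπ]
      have e1 := hc _ (hwx v hv)
      have e2 : x * (v * h * v⁻¹) * x⁻¹ = v * ((v⁻¹ * x * v) * h * (v⁻¹ * x * v)⁻¹) * v⁻¹ := by
        group
      rw [e2, map_mul, map_mul, map_mul, e1, map_inv, map_pow, map_mul, map_mul, map_inv,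
        conj_pow]
      group
    obtain ⟨z, hz0, hz1⟩ := hconj w hw
    obtain ⟨z', hz0', hz1'⟩ := hconj w' hw'
    have hconjH : ∀ v : L, v * h * v⁻¹ ∈ H := fun v => hH.conj_mem h hhH v
    exact pairing_inv H U H₀ N p hle hcomm hpow hcent hN hN1 (hconjH w) (hconjH w') hx hz0 hz0'
      hz1 hz1' hww
  -- rotate
  let t := w⁻¹ * w'
  have ht : t ∈ W₁ := W₁.mul_mem (W₁.inv_mem hw) hw'
  have hrel2 : ∀ x ∈ U, (c x : ZMod p) * c (t⁻¹ * x * t) = 1 := by
    intro x hx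
    have h2 := hrel (w * x * w⁻¹) (hWU w hw x hx)
    have e1 : w⁻¹ * (w * x * w⁻¹) * w = x := by group
    have e2 : w'⁻¹ * (w * x * w⁻¹) * w' = t⁻¹ * x * t := by
      simp only [t]; group
    rw [e1, e2] at h2
    exact h2
  have hU' : ∀ x ∈ U, ∀ n : ℕ, (t ^ n)⁻¹ * x * t ^ n ∈ U := fun x hx n => by
    have := hWU (t ^ n)⁻¹ (W₁.inv_mem (W₁.pow_mem ht n)) x hx
    simpa using this
  have hrot : ∀ x ∈ U, ∀ n : ℕ, (c ((t ^ (2 * n))⁻¹ * x * t ^ (2 * n)) : ZMod p) = c x := by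
    intro x hx n
    induction n with
    | zero => simp
    | succ n ih =>
      have h2 := hrel2 _ (hU' x hx (2 * n))
      have h3 := hrel2 _ (hU' x hx (2 * n + 1))
      have e1 : t⁻¹ * ((t ^ (2 * n))⁻¹ * x * t ^ (2 * n)) * t =
          (t ^ (2 * n + 1))⁻¹ * x * t ^ (2 * n + 1) := by
        rw [pow_succ]; group
      have e2 : t⁻¹ * ((t ^ (2 * n + 1))⁻¹ * x * t ^ (2 * n + 1)) * t =
          (t ^ (2 * (n + 1)))⁻¹ * x * t ^ (2 * (n + 1)) := by
        have : 2 * (n + 1) = 2 * n + 1 + 1 := by ring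
        rw [this, pow_succ t (2 * n + 1)]; group
      rw [e1, ih] at h2
      rw [e2] at h3
      -- `c x * y = 1` and `y * z = 1` give `z = c x`
      calc (c ((t ^ (2 * (n + 1)))⁻¹ * x * t ^ (2 * (n + 1))) : ZMod p)
          = (c x * c ((t ^ (2 * n + 1))⁻¹ * x * t ^ (2 * n + 1))) *
            c ((t ^ (2 * (n + 1)))⁻¹ * x * t ^ (2 * (n + 1))) := by rw [h2, one_mul]
        _ = c x * (c ((t ^ (2 * n + 1))⁻¹ * x * t ^ (2 * n + 1)) *
            c ((t ^ (2 * (n + 1)))⁻¹ * x * t ^ (2 * (n + 1)))) := by rw [mul_assoc]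
        _ = c x := by rw [h3, mul_one]
  have hsq : ∀ x ∈ U, (c x : ZMod p) ^ 2 = 1 := by
    intro x hx
    obtain ⟨k, hk⟩ := hq
    have h2 := hrot x hx (k + 1)
    have e1 : t ^ (2 * (k + 1)) = t := by
      have : 2 * (k + 1) = q + 1 := by omega
      rw [this, pow_succ, hWq t ht, one_mul]
    rw [e1] at h2
    have h3 := hrel2 x hx
    rw [h2] at h3
    rw [sq, h3]
  have hone : ∀ x ∈ U, (c x : ZMod p) = 1 := by
    intro x hx
    refine eq_one_of_sq hUodd (hsq x hx) ?_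
    rw [← hcpow x hx]
    have : x ^ Nat.card U = 1 := by
      have h2 : (⟨x, hx⟩ : U) ^ Nat.card U = 1 := pow_card_eq_one'
      exact congrArg Subtype.val h2
    rw [this, hc1]
  refine hh0 (hfixed h hhH (fun x hx => ?_))
  rw [← hπ, map_mul, hc x hx, map_inv]
  have h2 : π h ^ c x = π h ^ 1 := by
    rw [pow_inj_mod, hord]
    have h3 := hone x hx
    rw [← Nat.cast_one (R := ZMod p), ZMod.natCast_eq_natCast_iff] at h3
    exact h3
  rw [h2, pow_one, mul_inv_cancel]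

/-- The case where `U` is irreducible on `H / H₀`. -/
theorem core_irr [Finite L] (H U H₀ N : Subgroup L) (p q : ℕ) [hp : Fact p.Prime]
    (hq : Odd q) (hle : H₀ ≤ H) (hcomm : ⁅H, H⁆ = H₀)
    (hcent : ∀ x ∈ U, ∀ y ∈ H₀, x * y = y * x)
    (hUH : ∀ x ∈ U, ∀ y ∈ H, x * y * x⁻¹ ∈ H)
    (hidx : H₀.relIndex H = p ^ q)
    (hirr : ∀ X : Subgroup L, H₀ ≤ X → X ≤ H → (∀ x ∈ U, ∀ n ∈ X, x * n * x⁻¹ ∈ X) →
      X = H₀ ∨ X = H)
    (hN : N ≤ H₀) (hN1 : ∀ x ∈ H, ∀ y ∈ H₀, x * y * x⁻¹ * y⁻¹ ∈ N) (hNp : N.relIndex H₀ = p) :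
    False := by
  classical
  have hnorm := normal_N H H₀ N hN hN1
  let P := ↥H ⧸ N.subgroupOf H
  let ρ : ↥H →* P := QuotientGroup.mk' (N.subgroupOf H)
  have hρs : Function.Surjective ρ := QuotientGroup.mk'_surjective _
  have hρ : ∀ y : ↥H, ρ y = 1 ↔ (y : L) ∈ N := fun y => by
    rw [← mem_subgroupOf]; exact QuotientGroup.eq_one_iff y
  have hcen : ∀ y : ↥H, (y : L) ∈ H₀ → ρ y ∈ center P := by
    intro y hy
    rw [mem_center_iff]
    intro g
    obtain ⟨g, rfl⟩ := hρs g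
    have h1 : ρ (g * y * g⁻¹ * y⁻¹) = 1 := (hρ _).2 (hN1 g g.2 y hy)
    rw [map_mul, map_mul, map_mul, map_inv, map_inv] at h1
    exact mul_inv_eq_iff_eq_mul.1 (mul_inv_eq_one.1 h1)
  have hc : ∀ a b : P, ⁅a, b⁆ ∈ center P := by
    intro a b
    obtain ⟨a, rfl⟩ := hρs a
    obtain ⟨b, rfl⟩ := hρs b
    rw [← map_commutatorElement]
    refine hcen _ ?_
    rw [← hcomm]
    exact commutator_mem_commutator a.2 b.2
  -- the radical
  let R : Subgroup L := ((center P).comap ρ).map H.subtype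
  have hR0 : H₀ ≤ R := fun y hy => ⟨⟨y, hle hy⟩, hcen ⟨y, hle hy⟩ hy, rfl⟩
  have hRH : R ≤ H := by
    rintro _ ⟨y, _, rfl⟩
    exact y.2
  have hRiff : ∀ y : ↥H, (y : L) ∈ R ↔ ∀ g : ↥H, (⁅(g : L), (y : L)⁆ : L) ∈ N := by
    intro y
    constructor
    · rintro ⟨z, hz1, hz2⟩ g
      have : z = y := Subtype.ext hz2
      subst this
      have h2 : ρ z ∈ center P := hz1
      have e1 : (⁅(g : L), (z : L)⁆ : L) = ((⁅g, z⁆ : ↥H) : L) := rfl
      rw [e1, ← hρ, map_commutatorElement]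
      exact comm_central_right h2 _
    · intro h2
      refine ⟨y, ?_, rfl⟩
      show ρ y ∈ center P
      rw [mem_center_iff]
      intro g
      obtain ⟨g, rfl⟩ := hρs g
      have e1 : (⁅(g : L), (y : L)⁆ : L) = ((⁅g, y⁆ : ↥H) : L) := rfl
      have h3 := h2 g
      rw [e1, ← hρ, map_commutatorElement, commutatorElement_eq_one_iff_mul_comm] at h3
      exact h3
  have hRU : ∀ x ∈ U, ∀ n ∈ R, x * n * x⁻¹ ∈ R := by
    intro x hx n hn
    have hnH := hRH hn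
    refine (hRiff ⟨x * n * x⁻¹, hUH x hx n hnH⟩).2 (fun g => ?_)
    have hx' : x⁻¹ ∈ U := U.inv_mem hx
    have hgH : x⁻¹ * g * x ∈ H := by
      have := hUH x⁻¹ hx' g g.2
      simpa using this
    have h2 := (hRiff ⟨n, hnH⟩).1 hn ⟨x⁻¹ * g * x, hgH⟩
    have h0 : ⁅x⁻¹ * (g : L) * x, n⁆ ∈ H₀ := by
      rw [← hcomm]
      exact commutator_mem_commutator hgH hnH
    have e1 : ⁅(g : L), x * n * x⁻¹⁆ = x * ⁅x⁻¹ * (g : L) * x, n⁆ * x⁻¹ := by
      simp only [commutatorElement_def]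
      group
    show ⁅(g : L), x * n * x⁻¹⁆ ∈ N
    rw [e1, hcent x hx _ h0]
    have e2 : ⁅x⁻¹ * (g : L) * x, n⁆ * x * x⁻¹ = ⁅x⁻¹ * (g : L) * x, n⁆ := by group
    rw [e2]
    exact h2
  have hNne : ¬ H₀ ≤ N := by
    intro h
    have h2 : N.relIndex H₀ = 1 := Subgroup.relIndex_eq_one.2 h
    have := hp.out.one_lt
    omega
  rcases hirr R hR0 hRH hRU with h | h
  · -- the centre of `P` is the image of `H₀`
    have hind : (center P).index = p ^ q := by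
      have h2 : (center P).index = ((center P).comap ρ).index :=
        (Subgroup.index_comap_of_surjective _ hρs).symm
      have h3 : (center P).comap ρ = H₀.subgroupOf H := by
        ext y
        rw [mem_subgroupOf, ← h]
        constructor
        · intro hy; exact ⟨y, hy, rfl⟩
        · rintro ⟨z, hz1, hz2⟩
          have : z = y := Subtype.ext hz2
          subst this
          exact hz1
      rw [h2, h3]
      exact hidx
    have hcardc : Nat.card (commutator P) ∣ p := by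
      have h2 : commutator P = (H₀.subgroupOf H).map ρ := by
        have h3 : commutator P = (commutator ↥H).map ρ := by
          rw [commutator_def, commutator_def, Subgroup.map_commutator,
            Subgroup.map_top_of_surjective _ hρs]
        rw [h3]
        congr 1
        have h4 : (commutator ↥H).map H.subtype = H₀ := by
          rw [commutator_def, Subgroup.map_commutator, ← MonoidHom.range_eq_map,
            Subgroup.range_subtype, hcomm]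
        rw [← h4, Subgroup.subgroupOf, Subgroup.comap_map_eq_self_of_injective
          (Subgroup.subtype_injective H)]
      have h3 : Nat.card ((H₀.subgroupOf H).map ρ) = p := by
        rw [← Subgroup.relIndex_ker, QuotientGroup.ker_mk']
        rw [Subgroup.relIndex_subgroupOf hle, hNp]
      rw [h2, h3]
    obtain ⟨n, hn⟩ := Cfsg.Agent.Transfer.Extraspecial.exists_index_center_eq (p := p)
      (Nat.card P) (P := P) rfl hc hcardc
    rw [hind] at hn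
    have h5 := Nat.pow_right_injective hp.out.two_le hn
    obtain ⟨k, hk⟩ := hq
    omega
  · -- `H / N` abelian
    refine hNne ?_
    rw [← hcomm, Subgroup.commutator_le]
    intro a ha y hy
    have hyR : y ∈ R := by rw [h]; exact hy
    exact (hRiff ⟨y, hy⟩).1 hyR ⟨a, ha⟩

/-- In a nilpotent group `H`, a nontrivial subgroup is not equal to its commutator with `H`. -/
theorem commutator_ne {H H₀ : Subgroup L} (hnil : Group.IsNilpotent ↥H) (hle : H₀ ≤ H)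
    (hne : H₀ ≠ ⊥) : ⁅H₀, H⁆ ≠ H₀ := by
  intro heq
  have h1 : ∀ n : ℕ, H₀ ≤ H.lowerCentralSeries n := by
    intro n
    induction n with
    | zero => exact hle
    | succ n ih =>
      rw [Subgroup.lowerCentralSeries_succ]
      calc H₀ = ⁅H₀, H⁆ := heq.symm
        _ ≤ ⁅H.lowerCentralSeries n, H⁆ := Subgroup.commutator_mono ih le_rfl
  obtain ⟨n, hn⟩ := (Subgroup.isNilpotent_iff_lowerCentralSeries H).1 hnil
  refine hne (le_bot_iff.1 ?_)
  rw [← hn]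
  exact h1 n

/-- A subgroup `N` of index `p` in `H₀` containing `[H₀, H]`. -/
theorem exists_N [Finite L] {H H₀ : Subgroup L} (p : ℕ) [hp : Fact p.Prime]
    (hHp : IsPGroup p ↥H) (hH : ∀ x ∈ H, ∀ y ∈ H₀, x * y * x⁻¹ ∈ H₀) (hle : H₀ ≤ H)
    (hne : H₀ ≠ ⊥) :
    ∃ N : Subgroup L, N ≤ H₀ ∧ (∀ x ∈ H, ∀ y ∈ H₀, x * y * x⁻¹ * y⁻¹ ∈ N) ∧
      N.relIndex H₀ = p := by
  classical
  have hD : ⁅H₀, H⁆ ≤ H₀ := by
    rw [Subgroup.commutator_le]
    intro a ha b hb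
    have h1 := hH b hb _ (H₀.inv_mem ha)
    have h2 := H₀.mul_mem ha h1
    rw [commutatorElement_def]
    have e : a * b * a⁻¹ * b⁻¹ = a * (b * a⁻¹ * b⁻¹) := by group
    rw [e]
    exact h2
  have hDne := commutator_ne (H := H) (H₀ := H₀) hHp.isNilpotent hle hne
  have hDn : (⁅H₀, H⁆.subgroupOf H₀).Normal := by
    constructor
    intro n hn g
    rw [mem_subgroupOf] at hn ⊢
    have h1 : ⁅(g : L), (n : L)⁆ ∈ ⁅H₀, H⁆ :=
      Subgroup.commutator_mem_commutator g.2 (hle n.2)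
    have h2 := (⁅H₀, H⁆).mul_mem h1 hn
    rw [commutatorElement_def] at h2
    simpa using h2
  let Q := ↥H₀ ⧸ ⁅H₀, H⁆.subgroupOf H₀
  have hH₀p : IsPGroup p ↥H₀ := hHp.to_le hle
  have hQp : IsPGroup p Q := hH₀p.to_quotient _
  obtain ⟨k, hk⟩ := (IsPGroup.iff_card (p := p) (G := Q)).1 hQp
  have hk1 : k ≠ 0 := by
    rintro rfl
    rw [pow_zero] at hk
    have h1 : ⁅H₀, H⁆.relIndex H₀ = 1 := by
      rw [Subgroup.relIndex, Subgroup.index_eq_card]
      exact hk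
    exact hDne (le_antisymm hD (Subgroup.relIndex_eq_one.1 h1))
  obtain ⟨K, hK⟩ := Sylow.exists_subgroup_card_pow_prime (G := Q) p (n := k - 1)
    (by rw [hk]; exact pow_dvd_pow p (Nat.sub_le k 1))
  have hKi : K.index = p := by
    have h1 := K.card_mul_index
    rw [hK, hk] at h1
    have h2 : p ^ k = p ^ (k - 1) * p := by
      rw [← pow_succ]; congr 1; omega
    rw [h2] at h1
    exact Nat.eq_of_mul_eq_mul_left (pow_pos hp.out.pos _) h1
  let mk : ↥H₀ →* Q := QuotientGroup.mk' _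
  have hmks : Function.Surjective mk := QuotientGroup.mk'_surjective _
  refine ⟨(K.comap mk).map H₀.subtype, ?_, ?_, ?_⟩
  · rintro _ ⟨y, _, rfl⟩
    exact y.2
  · intro x hx y hy
    have h1 : ⁅x, y⁆ ∈ ⁅H₀, H⁆ := by
      rw [← commutatorElement_inv]
      exact Subgroup.inv_mem _ (Subgroup.commutator_mem_commutator hy hx)
    rw [commutatorElement_def] at h1
    refine ⟨⟨x * y * x⁻¹ * y⁻¹, hD h1⟩, ?_, rfl⟩
    show mk ⟨x * y * x⁻¹ * y⁻¹, hD h1⟩ ∈ K
    have h2 : mk ⟨x * y * x⁻¹ * y⁻¹, hD h1⟩ = 1 :=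
      (QuotientGroup.eq_one_iff _).2 (mem_subgroupOf.2 h1)
    rw [h2]
    exact K.one_mem
  · rw [Subgroup.relIndex, Subgroup.subgroupOf, Subgroup.comap_map_eq_self_of_injective
      (Subgroup.subtype_injective H₀), Subgroup.index_comap_of_surjective _ hmks, hKi]

/-- **The core of Peterfalvi (11.7).** -/
theorem core [Finite L] (H U W₁ H₀ : Subgroup L) (p q : ℕ) [hp : Fact p.Prime]
    (hq : Odd q) (hH : H.Normal) (hH₀ : H₀.Normal) (hle : H₀ ≤ H) (hcomm : ⁅H, H⁆ = H₀)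
    (hHp : IsPGroup p ↥H)
    (hpow : ∀ x ∈ H, x ^ p ∈ H₀)
    (hidx : H₀.relIndex H = p ^ q)
    (hcent : ∀ x ∈ U, ∀ y ∈ H₀, x * y = y * x)
    (hWU : ∀ w ∈ W₁, ∀ x ∈ U, w * x * w⁻¹ ∈ U)
    (hWq : ∀ w ∈ W₁, w ^ q = 1)
    (hUodd : Odd (Nat.card U))
    (hfixed : ∀ h ∈ H, (∀ x ∈ U, x * h * x⁻¹ * h⁻¹ ∈ H₀) → h ∈ H₀)
    (hdich : (∀ X : Subgroup L, H₀ ≤ X → X ≤ H → (∀ x ∈ U, ∀ n ∈ X, x * n * x⁻¹ ∈ X) →
        X = H₀ ∨ X = H) ∨
      ∃ H₁ : Subgroup L, H₀ ≤ H₁ ∧ H₁ ≤ H ∧ H₀.relIndex H₁ = p ∧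
        (∀ x ∈ U, ∀ h ∈ H₁, x * h * x⁻¹ ∈ H₁) ∧
        (⨆ w ∈ W₁, H₁.map (MulAut.conj w).toMonoidHom) = H) :
    H₀ = ⊥ := by
  by_contra hne
  obtain ⟨N, hN, hN1, hNp⟩ := exists_N p hHp (fun x _ y hy => hH₀.conj_mem y hy x) hle hne
  rcases hdich with hirr | ⟨H₁, h01, h1, hidx1, hn1, hsup⟩
  · exact core_irr H U H₀ N p q hq hle hcomm hcent (fun x _ y hy => hH.conj_mem y hy x) hidx hirr
      hN hN1 hNp
  · refine core_line H U W₁ H₀ N H₁ p q hq hH hH₀ hle hcomm hpow hcent hWU hWq hUodd hfixed h1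
      hidx1 hn1 hsup hN hN1 ?_
    intro h
    rw [h, Subgroup.relIndex_self] at hNp
    exact hp.out.one_lt.ne hNp

end Cfsg.Agent.OddOrderCharacters.PF11.Seven
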